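import Cfsg.Prelude.Def_LieExceptional
import Mathlib

/-!
Elementary facts on Zassenhaus groups.
-/

set_option autoImplicit false

namespace Cfsg.Agent.Lib.CharDeep.Zassenhaus

open Cfsg MulAction

universe u v

variable {G : Type u} {Ω : Type v} [Group G] [MulAction G Ω]

set_option linter.unusedSectionVars false

section Kernel

variable [Finite G] [Fintype Ω] {H : Subgroup G} {a : Ω}

/-- Elements of `H` are determined by the image of a point different from `a`. -/
theorem smul_inj_of_fix (hHfix : ∀ u ∈ H, u ≠ 1 → ∀ c : Ω, u • c = c → c = a)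
    {b : Ω} (hb : b ≠ a) {h h' : H} (hh : (h : G) • b = (h' : G) • b) : h = h' := by
  by_contra hne
  have h1 : ((h' : G)⁻¹ * (h : G)) ∈ H := H.mul_mem (H.inv_mem h'.2) h.2
  have h2 : ((h' : G)⁻¹ * (h : G)) ≠ 1 := by
    intro h3
    apply hne
    apply Subtype.ext
    exact (inv_mul_eq_one.mp h3).symm
  apply hb
  apply hHfix _ h1 h2
  rw [mul_smul, hh, inv_smul_smul]

/-- `H` is transitive on the points different from `a`. -/
theorem exists_smul_eq (hHcard : Nat.card H + 1 = Fintype.card Ω)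
    (hHfix : ∀ u ∈ H, u ≠ 1 → ∀ c : Ω, u • c = c → c = a)
    (hHa : H ≤ stabilizer G a) {b c : Ω} (hb : b ≠ a) (hc : c ≠ a) :
    ∃ h ∈ H, h • b = c := by
  classical
  let f : H → {x : Ω // x ≠ a} := fun h => ⟨(h : G) • b, by
    intro hx
    apply hb
    have h1 : (h : G) • a = a := hHa h.2
    rw [← h1] at hx
    exact smul_left_cancel _ hx⟩
  have hinj : Function.Injective f := by
    intro h h' hh
    exact smul_inj_of_fix hHfix hb (congrArg Subtype.val hh)
  have hcard : Nat.card H = Nat.card {x : Ω // x ≠ a} := by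
    rw [Nat.card_eq_fintype_card (α := {x : Ω // x ≠ a}), Fintype.card_subtype_compl,
      Fintype.card_subtype_eq]
    omega
  have hsurj : Function.Surjective f :=
    ((Nat.bijective_iff_injective_and_card f).mpr ⟨hinj, hcard⟩).2
  obtain ⟨h, hh⟩ := hsurj ⟨c, hc⟩
  exact ⟨h, h.2, congrArg Subtype.val hh⟩

/-- Any element fixing `a` and no other point lies in `H`. -/
theorem mem_of_fix_only (h3 : ∀ (g : G) (a b c : Ω), a ≠ b → b ≠ c → a ≠ c → g • a = a →
      g • b = b → g • c = c → g = 1)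
    (hHcard : Nat.card H + 1 = Fintype.card Ω)
    (hHfix : ∀ u ∈ H, u ≠ 1 → ∀ c : Ω, u • c = c → c = a)
    (hHa : H ≤ stabilizer G a) {y : G} (hya : y • a = a) (hy : ∀ c : Ω, y • c = c → c = a) :
    y ∈ H := by
  classical
  by_contra hyH
  have hne : ∀ b : {x : Ω // x ≠ a}, y • (b : Ω) ≠ a := by
    intro b hb
    apply b.2
    have h2 : y • (b : Ω) = y • a := hb.trans hya.symm
    exact smul_left_cancel _ h2
  choose φ hφH hφ using fun b : {x : Ω // x ≠ a} => exists_smul_eq hHcard hHfix hHa b.2 (hne b)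
  let f : {x : Ω // x ≠ a} → H := fun b => ⟨φ b, hφH b⟩
  have hinj : Function.Injective f := by
    intro b c hbc
    by_contra hne'
    have hφeq : φ b = φ c := congrArg Subtype.val hbc
    have hab : (b : Ω) ≠ c := fun h => hne' (Subtype.ext h)
    -- `(φ b)⁻¹ * y` fixes `a`, `b`, `c`
    have hone : (φ b)⁻¹ * y = 1 := by
      apply h3 _ a b c (Ne.symm b.2) hab (Ne.symm c.2)
      · have : (φ b) • a = a := hHa (hφH b)
        rw [mul_smul, hya]
        nth_rw 1 [← this]
        exact inv_smul_smul _ _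
      · rw [mul_smul, ← hφ b, inv_smul_smul]
      · rw [mul_smul, ← hφ c, hφeq, inv_smul_smul]
    have : y = φ b := (inv_mul_eq_one.mp hone).symm
    exact hyH (this ▸ hφH b)
  have hcard : Nat.card {x : Ω // x ≠ a} = Nat.card H := by
    rw [Nat.card_eq_fintype_card (α := {x : Ω // x ≠ a}), Fintype.card_subtype_compl,
      Fintype.card_subtype_eq]
    omega
  have hsurj : Function.Surjective f :=
    ((Nat.bijective_iff_injective_and_card f).mpr ⟨hinj, hcard⟩).2
  obtain ⟨b, hb⟩ := hsurj 1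
  have hb1 : φ b = 1 := congrArg Subtype.val hb
  have := hφ b
  rw [hb1, one_smul] at this
  exact b.2 (hy _ this.symm)

/-- Conjugates by the stabilizer stay in `H`. -/
theorem conj_mem_of_stabilizer (h3 : ∀ (g : G) (a b c : Ω), a ≠ b → b ≠ c → a ≠ c → g • a = a →
      g • b = b → g • c = c → g = 1)
    (hHcard : Nat.card H + 1 = Fintype.card Ω)
    (hHfix : ∀ u ∈ H, u ≠ 1 → ∀ c : Ω, u • c = c → c = a)
    (hHa : H ≤ stabilizer G a) {x u : G} (hx : x • a = a) (hu : u ∈ H) :
    x * u * x⁻¹ ∈ H := by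
  by_cases hu1 : u = 1
  · simp [hu1, H.one_mem]
  apply mem_of_fix_only h3 hHcard hHfix hHa
  · have h1 : x⁻¹ • a = a := by rw [inv_smul_eq_iff, hx]
    rw [mul_smul, mul_smul, h1]
    have : u • a = a := hHa hu
    rw [this, hx]
  · intro c hc
    have h1 : u • (x⁻¹ • c) = x⁻¹ • c := by
      rw [mul_smul, mul_smul] at hc
      rw [← smul_left_cancel_iff x, hc, smul_inv_smul]
    have := hHfix u hu hu1 _ h1
    rw [inv_smul_eq_iff, hx] at this
    exact this

end Kernel

end Cfsg.Agent.Lib.CharDeep.Zassenhaus
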