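import Cfsg.Agent.Lib.CharDeep.FrobRelevant
import Cfsg.Agent.Lib.Char.CentralCount

/-!
# The averaging decomposition over a normal subgroup, and the Feit–Thompson degree bound

`H` is normal in `N`; the average of a character `ψ` over the cosets of `H` is the part of `ψ` on
the irreducibles trivial on `H`; the rest vanishes on all `g` whose `H`-centralizer is trivial.
-/

set_option autoImplicit false
set_option linter.unusedSectionVars false

namespace Cfsg.Agent.Lib.CharDeep.FTBound

open Cfsg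
open Cfsg.Agent.Lib.Char.Ortho Cfsg.Agent.Lib.Char.Basic Cfsg.Agent.Lib.Char.Complete
  Cfsg.Agent.Lib.Char.Degree Cfsg.Agent.Lib.Char.Induced Cfsg.Agent.Lib.Char.GenLattice
  Cfsg.Agent.Lib.Coh.DegSum Cfsg.Agent.Lib.Coh.FrobDeg Cfsg.Agent.Lib.OddChar.FixedClass
  Cfsg.Agent.Lib.CharDeep.MaxInd Cfsg.Agent.Lib.CharDeep.FrobRelevant
open scoped ComplexConjugate

variable {N : Type*} [Group N] [Fintype N] {H : Subgroup N}

theorem rep_dichotomy [Fintype H] (hH : H.Normal) {n : ℕ} (ρ : Representation ℂ N (Fin n → ℂ))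
    (hρ : ρ.IsIrreducible) : (∀ y ∈ H, ρ y = 1) ∨ (∑ y : H, ρ (y : N)) = 0 := by
  classical
  set T : Module.End ℂ (Fin n → ℂ) := ∑ y : H, ρ (y : N) with hT
  have hcomm : ∀ g, T ∘ₗ ρ g = ρ g ∘ₗ T := by
    intro g
    have e1 : ρ g ∘ₗ T = ∑ y : H, ρ (g * y) := by
      change ρ g * T = _
      rw [hT, Finset.mul_sum]
      refine Finset.sum_congr rfl fun y _ => ?_
      rw [map_mul]
    have e2 : T ∘ₗ ρ g = ∑ y : H, ρ (y * g) := by
      change T * ρ g = _
      rw [hT, Finset.sum_mul]
      refine Finset.sum_congr rfl fun y _ => ?_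
      rw [map_mul]
    rw [e1, e2]
    let e : H ≃ H := (MulAut.conj g⁻¹).toEquiv.subtypeEquiv (fun y => by
      constructor
      · intro hy
        have := hH.conj_mem' _ hy g
        simpa [mul_assoc] using this
      · intro hy
        have := hH.conj_mem _ hy g
        simpa [mul_assoc] using this)
    refine Fintype.sum_equiv e _ _ fun y => ?_
    congr 1
    simp [e, mul_assoc]
  obtain ⟨κ, hκ⟩ := schur_scalar ρ hρ T hcomm
  by_cases hκ0 : κ = 0
  · right
    rw [hκ, hκ0, zero_smul]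
  · left
    intro y hy
    have h1 : T * ρ y = T := by
      have e2 : T * ρ y = ∑ w : H, ρ ((w : N) * y) := by
        rw [hT, Finset.sum_mul]
        refine Finset.sum_congr rfl fun w _ => ?_
        rw [map_mul]
      rw [e2]
      exact Fintype.sum_equiv (Equiv.mulRight (⟨y, hy⟩ : H)) _ _ fun w => by simp
    rw [hκ] at h1
    have h2 : κ • ρ y = κ • (1 : Module.End ℂ (Fin n → ℂ)) := by
      refine LinearMap.ext fun v => ?_
      have := LinearMap.congr_fun h1 v
      simpa using this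
    exact smul_right_injective _ hκ0 h2

theorem mul_eq_of_trivOn [Fintype H] (hH : H.Normal) {θ : N → ℂ} (hθ : θ ∈ trivOn H) {y : N}
    (hy : y ∈ H) (g : N) : θ (y * g) = θ g := by
  classical
  obtain ⟨hirr, htriv⟩ := mem_trivOn.mp hθ
  have hirr' := hirr
  obtain ⟨n, ρ, hρ, rfl⟩ := hirr'
  rcases rep_dichotomy hH ρ hρ with h | h
  · rw [Representation.character, Representation.character, map_mul, h y hy, one_mul]
  · exfalso
    have h1 : ∑ w : H, ρ.character (w : N) = 0 := by
      have : ∑ w : H, ρ.character (w : N) = LinearMap.trace ℂ _ (∑ w : H, ρ (w : N)) := by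
        rw [map_sum]; rfl
      rw [this, h, map_zero]
    rw [Finset.sum_congr rfl (fun (w : H) _ => htriv w w.2), Finset.sum_const, Finset.card_univ,
      nsmul_eq_mul] at h1
    rcases mul_eq_zero.mp h1 with h2 | h2
    · have : Fintype.card H ≠ 0 := Fintype.card_ne_zero
      exact this (by exact_mod_cast h2)
    · exact irr_one_ne_zero hirr h2

theorem sum_mul_eq_zero_of_nontrivOn [Fintype H] (hH : H.Normal) {θ : N → ℂ}
    (hθ : θ ∈ nontrivOn H) (g : N) : ∑ y : H, θ (y * g) = 0 := by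
  classical
  obtain ⟨hirr, h0, hh0, hne⟩ := mem_nontrivOn.mp hθ
  obtain ⟨n, ρ, hρ, rfl⟩ := hirr
  rcases rep_dichotomy hH ρ hρ with h | h
  · exfalso
    apply hne
    rw [Representation.character, h h0 hh0]
    simp [Representation.character]
  · have : ∑ y : H, ρ.character (y * g) =
        LinearMap.trace ℂ _ ((∑ y : H, ρ (y : N)) * ρ g) := by
      rw [Finset.sum_mul, map_sum]
      refine Finset.sum_congr rfl fun y _ => ?_
      rw [Representation.character, map_mul]
    rw [this, h, zero_mul, map_zero]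

/-- Inner product of two explicit combinations of irreducible characters. -/
theorem inner_sum_sum {s t : Finset (N → ℂ)} (hs : ∀ θ ∈ s, IsIrrCharacter N θ)
    (ht : ∀ θ ∈ t, IsIrrCharacter N θ) (a b : (N → ℂ) → ℂ) :
    classInner (fun g => ∑ θ ∈ s, a θ * θ g) (fun g => ∑ θ ∈ t, b θ * θ g) =
      ∑ θ ∈ s ∩ t, a θ * conj (b θ) := by
  classical
  have e1 : (fun g => ∑ θ ∈ s, a θ * θ g) = ∑ θ ∈ s, a θ • θ := by
    funext g; simp [Finset.sum_apply]
  have e2 : (fun g => ∑ θ ∈ t, b θ * θ g) = ∑ θ ∈ t, b θ • θ := by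
    funext g; simp [Finset.sum_apply]
  rw [e1, e2, classInner_sum_left]
  simp only [classInner_sum_right, classInner_smul_left, classInner_smul_right]
  have h : ∀ θ ∈ s, ∑ θ' ∈ t, conj (b θ') * (a θ * classInner θ θ') =
      if θ ∈ t then a θ * conj (b θ) else 0 := by
    intro θ hθ
    have h2 : ∀ θ' ∈ t, conj (b θ') * (a θ * classInner θ θ') =
        if θ = θ' then a θ * conj (b θ') else 0 := by
      intro θ' hθ'
      rw [classInner_irr (hs θ hθ) (ht θ' hθ')]
      split_ifs <;> simp [mul_comm]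
    rw [Finset.sum_congr rfl h2, Finset.sum_ite_eq]
  rw [Finset.sum_congr rfl h, ← Finset.sum_filter, Finset.filter_mem_eq_inter]

theorem sum_re_eq (f h : N → ℂ) :
    ∑ g : N, (f g * conj (h g)).re = (Nat.card N : ℝ) * (classInner f h).re := by
  have hc : (Nat.card N : ℂ) ≠ 0 := card_ne_zero_complex
  have e : ∑ g : N, f g * conj (h g) = (((Nat.card N : ℝ)) : ℂ) * classInner f h := by
    rw [classInner]
    push_cast
    rw [← mul_assoc, mul_inv_cancel₀ hc, one_mul]
  rw [← Complex.re_sum, e, Complex.re_ofReal_mul]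

theorem sum_normSq_eq (f : N → ℂ) :
    ∑ g : N, Complex.normSq (f g) = (Nat.card N : ℝ) * (classInner f f).re := by
  rw [← sum_re_eq]
  refine Finset.sum_congr rfl fun g _ => ?_
  rw [Complex.mul_conj, Complex.ofReal_re]

/-- The average of `ψ` over the cosets of `H`. -/
noncomputable def avgFun (H : Subgroup N) [Fintype H] (ψ : N → ℂ) (g : N) : ℂ :=
  (Nat.card H : ℂ)⁻¹ * ∑ y : H, ψ (y * g)

theorem part_on_N [Fintype H] (hH : H.Normal) {ψ : N → ℂ} (hψ : IsCharacter N ψ)
    (hker : ∃ h ∈ H, ψ h ≠ ψ 1) (D : Finset N)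
    (hD : ∀ g, g ∉ D → ∀ y ∈ H, y * g = g * y → y = 1) :
    ∑ g ∈ D, Complex.normSq (avgFun H ψ g) + Nat.card N ≤ ∑ g ∈ D, Complex.normSq (ψ g) := by
  classical
  have hψc : IsClassFunction N ψ := isClassFunction_of_isCharacter hψ
  set a : (N → ℂ) → ℂ := fun θ => classInner ψ θ with ha
  set B : N → ℂ := fun g => ∑ θ ∈ trivOn H, a θ * θ g with hB
  set E : N → ℂ := fun g => ∑ θ ∈ nontrivOn H, a θ * θ g with hE
  have h1 : ∀ g, ψ g = E g + B g := by
    intro g
    rw [apply_eq_sum hψc g, sum_split (H := H)]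
  have hcH : (Nat.card H : ℂ) ≠ 0 := card_subgroup_ne_zero H
  have h2 : ∀ g, avgFun H ψ g = B g := by
    intro g
    have h3 : ∑ y : H, E (y * g) = 0 := by
      simp only [hE]
      rw [Finset.sum_comm]
      refine Finset.sum_eq_zero fun θ hθ => ?_
      rw [← Finset.mul_sum, sum_mul_eq_zero_of_nontrivOn hH hθ, mul_zero]
    have h4 : ∑ y : H, B (y * g) = (Nat.card H : ℂ) * B g := by
      have : ∀ y : H, B (y * g) = B g := by
        intro y
        simp only [hB]
        refine Finset.sum_congr rfl fun θ hθ => ?_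
        rw [mul_eq_of_trivOn hH hθ y.2]
      rw [Finset.sum_congr rfl (fun y _ => this y), Finset.sum_const, Finset.card_univ,
        nsmul_eq_mul, Nat.card_eq_fintype_card]
    rw [avgFun, Finset.sum_congr rfl (fun (y : H) _ => h1 (y * g)), Finset.sum_add_distrib, h3, h4,
      zero_add, ← mul_assoc, inv_mul_cancel₀ hcH, one_mul]
  have h3 : ∀ g, g ∉ D → E g = 0 := by
    intro g hg
    have hconj : ∀ y : H, ψ (y * g) = ψ g := by
      let φ : H → H := fun w => ⟨w * (g * (w : N)⁻¹ * g⁻¹), H.mul_mem w.2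
        (hH.conj_mem _ (H.inv_mem w.2) g)⟩
      have hinj : Function.Injective φ := by
        intro w w' hww
        have h5 : (w : N) * (g * (w : N)⁻¹ * g⁻¹) = w' * (g * (w' : N)⁻¹ * g⁻¹) :=
          congrArg Subtype.val hww
        set u : N := (w' : N)⁻¹ * w with hu
        have hu1 : u ∈ H := H.mul_mem (H.inv_mem w'.2) w.2
        have h6 : u * g = g * u := by
          have : (w' : N)⁻¹ * w * g = g * ((w' : N)⁻¹ * w) := by
            have h7 : (w : N) * g * (w : N)⁻¹ = w' * g * (w' : N)⁻¹ := by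
              have := congrArg (· * g) h5
              simpa [mul_assoc] using this
            calc (w' : N)⁻¹ * w * g = (w' : N)⁻¹ * ((w : N) * g * (w : N)⁻¹) * w := by group
              _ = (w' : N)⁻¹ * (w' * g * (w' : N)⁻¹) * w := by rw [h7]
              _ = g * ((w' : N)⁻¹ * w) := by group
          exact this
        have h7 := hD g hg u hu1 h6
        apply Subtype.ext
        have : (w' : N)⁻¹ * w = 1 := h7
        exact (inv_mul_eq_one.mp this).symm
      have hsurj := Finite.injective_iff_surjective.mp hinj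
      intro y
      obtain ⟨w, hw⟩ := hsurj y
      have h8 : (y : N) = w * (g * (w : N)⁻¹ * g⁻¹) := (congrArg Subtype.val hw).symm
      have h9 : (y : N) * g = w * g * (w : N)⁻¹ := by rw [h8]; group
      rw [h9, hψc]
    have h4 : avgFun H ψ g = ψ g := by
      rw [avgFun, Finset.sum_congr rfl (fun y _ => hconj y), Finset.sum_const, Finset.card_univ,
        nsmul_eq_mul, ← Nat.card_eq_fintype_card, ← mul_assoc, inv_mul_cancel₀ hcH, one_mul]
    have h5 := h1 g
    rw [← h2 g, h4] at h5
    exact (add_eq_right.mp h5.symm)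
  have hirrN : ∀ θ ∈ nontrivOn H, IsIrrCharacter N θ := fun θ hθ => (mem_nontrivOn.mp hθ).1
  have hirrT : ∀ θ ∈ trivOn H, IsIrrCharacter N θ := fun θ hθ => (mem_trivOn.mp hθ).1
  have hEE : classInner E E = ∑ θ ∈ nontrivOn H, a θ * conj (a θ) := by
    rw [hE, inner_sum_sum hirrN hirrN a a, Finset.inter_self]
  have hEB : classInner E B = 0 := by
    rw [hE, hB, inner_sum_sum hirrN hirrT a a]
    have : nontrivOn H ∩ trivOn H = ∅ := by
      ext θ
      simp only [Finset.mem_inter, Finset.notMem_empty, iff_false, not_and]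
      intro h3 h4
      obtain ⟨-, h0, hh0, hne⟩ := mem_nontrivOn.mp h3
      exact hne ((mem_trivOn.mp h4).2 h0 hh0)
    rw [this, Finset.sum_empty]
  -- `[E,E] ≥ 1`
  have hEE1 : 1 ≤ (classInner E E).re := by
    by_contra hlt
    push Not at hlt
    have hnat : ∀ θ ∈ nontrivOn H, ∃ m : ℕ, a θ = m := fun θ hθ =>
      exists_nat_classInner hψ (isCharacter_of_isIrrCharacter (hirrN θ hθ))
    have hre : ∀ θ ∈ nontrivOn H, (a θ * conj (a θ)).re = (a θ).re ^ 2 ∧
        (∃ m : ℕ, (a θ).re = m) := by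
      intro θ hθ
      obtain ⟨m, hm⟩ := hnat θ hθ
      rw [hm]
      refine ⟨by simp [sq], m, by simp⟩
    have hzero : ∀ θ ∈ nontrivOn H, a θ = 0 := by
      intro θ hθ
      obtain ⟨m, hm⟩ := hnat θ hθ
      by_contra hne
      have hm0 : m ≠ 0 := by
        rintro rfl
        exact hne (by simpa using hm)
      have hm1 : (1 : ℝ) ≤ m := by exact_mod_cast Nat.pos_of_ne_zero hm0
      apply absurd hlt
      push Not
      rw [hEE, Complex.re_sum]
      calc (1 : ℝ) ≤ (a θ * conj (a θ)).re := by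
            rw [(hre θ hθ).1, hm]
            simp only [Complex.natCast_re]
            nlinarith
        _ ≤ _ := Finset.single_le_sum (f := fun θ => (a θ * conj (a θ)).re)
            (fun θ' hθ' => by rw [(hre θ' hθ').1]; positivity) hθ
    have hE0 : ∀ g, E g = 0 := by
      intro g
      exact Finset.sum_eq_zero fun θ hθ => by rw [hzero θ hθ, zero_mul]
    obtain ⟨h, hh, hne⟩ := hker
    apply hne
    rw [h1 h, h1 1, hE0, hE0, zero_add, zero_add]
    simp only [hB]
    refine Finset.sum_congr rfl fun θ hθ => ?_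
    rw [(mem_trivOn.mp hθ).2 h hh]
  have hcN : (0 : ℝ) < (Nat.card N : ℝ) := by
    exact_mod_cast (Nat.card_pos (α := N))
  have hsumE : ∑ g ∈ D, Complex.normSq (E g) = (Nat.card N : ℝ) * (classInner E E).re := by
    have e1 : ∑ g ∈ D, Complex.normSq (E g) = ∑ g : N, Complex.normSq (E g) := by
      refine Finset.sum_subset (Finset.subset_univ _) fun g _ hg => ?_
      rw [h3 g hg, map_zero]
    rw [e1, sum_normSq_eq]
  have hsumEB : ∑ g ∈ D, (E g * conj (B g)).re = 0 := by
    have e1 : ∑ g ∈ D, (E g * conj (B g)).re = ∑ g : N, (E g * conj (B g)).re := by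
      refine Finset.sum_subset (Finset.subset_univ _) fun g _ hg => ?_
      rw [h3 g hg, zero_mul, Complex.zero_re]
    rw [e1, sum_re_eq, hEB, Complex.zero_re, mul_zero]
  have hexp : ∑ g ∈ D, Complex.normSq (ψ g) = ∑ g ∈ D, Complex.normSq (E g) +
      ∑ g ∈ D, Complex.normSq (B g) + 2 * ∑ g ∈ D, (E g * conj (B g)).re := by
    rw [Finset.mul_sum, ← Finset.sum_add_distrib, ← Finset.sum_add_distrib]
    refine Finset.sum_congr rfl fun g _ => ?_
    rw [h1 g, Complex.normSq_add]
  have hB' : ∑ g ∈ D, Complex.normSq (avgFun H ψ g) = ∑ g ∈ D, Complex.normSq (B g) :=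
    Finset.sum_congr rfl fun g _ => by rw [h2 g]
  rw [hexp, hsumE, hsumEB, hB', mul_zero, add_zero]
  nlinarith

section GLevel

variable {G : Type*} [Group G] [Fintype G]

theorem card_filter_mem (K : Subgroup G) [DecidablePred (· ∈ K)] :
    ((Finset.univ : Finset G).filter (· ∈ K)).card = Nat.card K := by
  rw [Nat.card_eq_fintype_card, Fintype.card_subtype]

theorem hone_mem_normalizer {H : Subgroup G}
    (hone : ∀ g : G, g ∉ Subgroup.center G → ∀ a b : G,
      Subgroup.centralizer ({g} : Set G) ⊓ H.map (MulAut.conj a).toMonoidHom ≠ ⊥ →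
      Subgroup.centralizer ({g} : Set G) ⊓ H.map (MulAut.conj b).toMonoidHom ≠ ⊥ →
      H.map (MulAut.conj a).toMonoidHom = H.map (MulAut.conj b).toMonoidHom)
    {x : G} (hx : x ∉ Subgroup.center G) {a b h h' : G} (hh : h ∈ H) (hh1 : h ≠ 1)
    (hh' : h' ∈ H) (hh'1 : h' ≠ 1) (hc : (a⁻¹ * x * a) * h = h * (a⁻¹ * x * a))
    (hc' : (b⁻¹ * x * b) * h' = h' * (b⁻¹ * x * b)) :
    a⁻¹ * b ∈ Subgroup.normalizer (H : Set G) := by
  have key : ∀ (c k : G), k ∈ H → k ≠ 1 → (c⁻¹ * x * c) * k = k * (c⁻¹ * x * c) →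
      Subgroup.centralizer ({x} : Set G) ⊓ H.map (MulAut.conj c).toMonoidHom ≠ ⊥ := by
    intro c k hk hk1 hcomm hbot
    have h1 : c * k * c⁻¹ ∈ Subgroup.centralizer ({x} : Set G) ⊓ H.map (MulAut.conj c).toMonoidHom := by
      refine Subgroup.mem_inf.mpr ⟨?_, ?_⟩
      · rw [Subgroup.mem_centralizer_singleton_iff]
        calc c * k * c⁻¹ * x = c * (k * (c⁻¹ * x * c)) * c⁻¹ := by group
          _ = c * ((c⁻¹ * x * c) * k) * c⁻¹ := by rw [hcomm]
          _ = x * (c * k * c⁻¹) := by group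
      · exact ⟨k, hk, by simp⟩
    rw [hbot, Subgroup.mem_bot] at h1
    apply hk1
    have : c⁻¹ * (c * k * c⁻¹) * c = 1 := by rw [h1]; group
    simpa [mul_assoc] using this
  have hmap := hone x hx a b (key a h hh hh1 hc) (key b h' hh' hh'1 hc')
  rw [Subgroup.mem_normalizer_iff]
  intro y
  constructor
  · intro hy
    have h1 : b * y * b⁻¹ ∈ H.map (MulAut.conj a).toMonoidHom := by
      rw [hmap]
      exact ⟨y, hy, by simp⟩
    obtain ⟨w, hw, hw2⟩ := h1
    have h2 : a * w * a⁻¹ = b * y * b⁻¹ := by simpa using hw2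
    have h3 : a⁻¹ * b * y * (a⁻¹ * b)⁻¹ = w := by
      have : w = a⁻¹ * (a * w * a⁻¹) * a := by group
      rw [this, h2]; group
    rw [h3]; exact hw
  · intro hy
    have h1 : a * (a⁻¹ * b * y * (a⁻¹ * b)⁻¹) * a⁻¹ ∈ H.map (MulAut.conj b).toMonoidHom := by
      rw [← hmap]
      exact ⟨_, hy, by simp⟩
    obtain ⟨w, hw, hw2⟩ := h1
    have h2 : b * w * b⁻¹ = a * (a⁻¹ * b * y * (a⁻¹ * b)⁻¹) * a⁻¹ := by simpa using hw2
    have h3 : y = w := by
      have e1 : a * (a⁻¹ * b * y * (a⁻¹ * b)⁻¹) * a⁻¹ = b * y * b⁻¹ := by group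
      rw [e1] at h2
      have := mul_left_cancel (mul_right_cancel h2)
      exact this.symm
    rw [h3]; exact hw

/-- The double counting estimate: `|G| S ≤ |N| (|G| - |Z| χ(1)²)`. -/
theorem double_count {H : Subgroup G}
    (hone : ∀ g : G, g ∉ Subgroup.center G → ∀ a b : G,
      Subgroup.centralizer ({g} : Set G) ⊓ H.map (MulAut.conj a).toMonoidHom ≠ ⊥ →
      Subgroup.centralizer ({g} : Set G) ⊓ H.map (MulAut.conj b).toMonoidHom ≠ ⊥ →
      H.map (MulAut.conj a).toMonoidHom = H.map (MulAut.conj b).toMonoidHom)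
    [DecidablePred (· ∈ Subgroup.center G)]
    (A : Finset G) (hA : ∀ g ∈ A, g ∉ Subgroup.center G ∧ ∃ h ∈ H, h ≠ 1 ∧ g * h = h * g)
    (f : G → ℝ) (hf : ∀ a x, f (a * x * a⁻¹) = f x) (hf0 : ∀ x, 0 ≤ f x) :
    (Nat.card G : ℝ) * ∑ g ∈ A, f g ≤ (Nat.card (Subgroup.normalizer (H : Set G)) : ℝ) *
      ∑ x ∈ (Finset.univ : Finset G).filter (· ∉ Subgroup.center G), f x := by
  classical
  have e1 : (Nat.card G : ℝ) * ∑ g ∈ A, f g =
      ∑ x : G, ∑ a : G, if a⁻¹ * x * a ∈ A then f x else 0 := by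
    rw [Finset.sum_comm]
    have : ∀ a : G, ∑ x : G, (if a⁻¹ * x * a ∈ A then f x else 0) = ∑ g ∈ A, f g := by
      intro a
      calc ∑ x : G, (if a⁻¹ * x * a ∈ A then f x else 0)
          = ∑ g : G, (if g ∈ A then f g else 0) := by
            refine Fintype.sum_equiv (MulAut.conj a⁻¹).toEquiv _ _ fun x => ?_
            have h1 : (MulAut.conj a⁻¹).toEquiv x = a⁻¹ * x * a := by simp
            rw [h1]
            have h2 := hf a⁻¹ x
            rw [inv_inv] at h2
            rw [h2]
        _ = ∑ g ∈ A, f g := by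
            simp [Finset.sum_ite_mem]
    rw [Finset.sum_congr rfl (fun a _ => this a), Finset.sum_const, Finset.card_univ,
      nsmul_eq_mul, Nat.card_eq_fintype_card]
  rw [e1, Finset.sum_filter, Finset.mul_sum]
  refine Finset.sum_le_sum fun x _ => ?_
  by_cases hx : x ∈ Subgroup.center G
  · rw [if_neg (not_not.mpr hx), mul_zero]
    refine le_of_eq (Finset.sum_eq_zero fun a _ => ?_)
    rw [if_neg]
    intro hmem
    apply (hA _ hmem).1
    have := (Subgroup.mem_center_iff.mp hx a)
    rw [show a⁻¹ * x * a = x by rw [mul_assoc, ← this]; group]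
    exact hx
  · rw [if_pos hx, ← Finset.sum_filter, Finset.sum_const, nsmul_eq_mul]
    refine mul_le_mul_of_nonneg_right ?_ (hf0 x)
    have : ((Finset.univ : Finset G).filter (fun a => a⁻¹ * x * a ∈ A)).card ≤
        Nat.card (Subgroup.normalizer (H : Set G)) := by
      rcases Finset.eq_empty_or_nonempty
        ((Finset.univ : Finset G).filter (fun a => a⁻¹ * x * a ∈ A)) with h0 | ⟨a₀, ha₀⟩
      · rw [h0, Finset.card_empty]; exact Nat.zero_le _
      · rw [← card_filter_mem]
        refine Finset.card_le_card_of_injOn (fun a => a₀⁻¹ * a) ?_ ?_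
        · intro a ha
          simp only [Finset.coe_filter, Finset.mem_univ, true_and, Set.mem_setOf_eq] at ha ⊢
          obtain ⟨-, h, hh, hh1, hc⟩ := hA _ (Finset.mem_filter.mp ha₀).2
          obtain ⟨-, h', hh', hh'1, hc'⟩ := hA _ ha
          exact hone_mem_normalizer hone hx hh hh1 hh' hh'1 hc hc'
        · intro a _ b _ hab
          exact mul_left_cancel hab
    exact_mod_cast this

theorem normSq_central {χ : G → ℂ} (hχ : IsIrrCharacter G χ) {z : G}
    (hz : z ∈ Subgroup.center G) : Complex.normSq (χ z) = Complex.normSq (χ 1) := by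
  have hχc := isCharacter_of_isIrrCharacter hχ
  have h1 := Cfsg.Agent.Lib.Char.CentralCount.char_mul_central hχ hz z⁻¹
  rw [inv_mul_cancel, char_inv_eq_conj hχc] at h1
  have h2 : conj (χ 1) = χ 1 := by
    rw [← charDegree_natCast hχc]; simp
  have h3 : ((Complex.normSq (χ 1) : ℝ) : ℂ) = ((Complex.normSq (χ z) : ℝ) : ℂ) := by
    rw [Complex.normSq_eq_conj_mul_self, Complex.normSq_eq_conj_mul_self, h2, h1]
  exact_mod_cast h3.symm

theorem first_bound (H : Subgroup G) [Fintype H] (hZ : H ⊓ Subgroup.center G = ⊥)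
    (hone : ∀ g : G, g ∉ Subgroup.center G → ∀ a b : G,
      Subgroup.centralizer ({g} : Set G) ⊓ H.map (MulAut.conj a).toMonoidHom ≠ ⊥ →
      Subgroup.centralizer ({g} : Set G) ⊓ H.map (MulAut.conj b).toMonoidHom ≠ ⊥ →
      H.map (MulAut.conj a).toMonoidHom = H.map (MulAut.conj b).toMonoidHom)
    {χ : G → ℂ} (hχ : IsIrrCharacter G χ) (hker : ∃ h ∈ H, χ h ≠ χ 1) :
    (Nat.card H : ℝ) * (classInner (fun h : H => χ h) (fun _ => 1)).re ^ 2 < (χ 1).re ^ 2 := by
  classical
  set Z := Subgroup.center G with hZdef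
  set N := Subgroup.normalizer (H : Set G) with hNdef
  have hχc := isCharacter_of_isIrrCharacter hχ
  have hχcl := isClassFunction_of_isCharacter hχc
  set f : G → ℝ := fun g => Complex.normSq (χ g) with hf
  obtain ⟨h₀, hh₀, hne₀⟩ := hker
  have hh₀1 : h₀ ≠ 1 := by rintro rfl; exact hne₀ rfl
  set D₀ : Finset G := Finset.univ.filter (fun g => ∃ h ∈ H, h ≠ 1 ∧ g * h = h * g) with hD₀
  have hD₀mem : ∀ g, g ∈ D₀ ↔ ∃ h ∈ H, h ≠ 1 ∧ g * h = h * g := by simp [hD₀]
  have hnoncentral : ∀ h ∈ H, h ≠ 1 → h ∉ Z := by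
    intro h hh hh1 hhz
    have : h ∈ H ⊓ Subgroup.center G := Subgroup.mem_inf.mpr ⟨hh, hhz⟩
    rw [hZ, Subgroup.mem_bot] at this
    exact hh1 this
  have hD₀N : ∀ g ∈ D₀, g ∈ N := by
    intro g hg
    obtain ⟨h, hh, hh1, hc⟩ := (hD₀mem g).mp hg
    have h2 : g⁻¹ * h * g = h := by rw [mul_assoc, ← hc]; group
    have := hone_mem_normalizer hone (hnoncentral h hh hh1) (a := 1) (b := g) hh hh1 hh hh1
      (by simp) (by rw [h2])
    simpa using this
  have hHN : H ≤ N := Subgroup.le_normalizer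
  have hZN : Z ≤ N := by
    intro z hz
    rw [hNdef, Subgroup.mem_normalizer_iff]
    intro y
    rw [show z * y * z⁻¹ = y by rw [← (Subgroup.mem_center_iff.mp hz y)]; group]
  have hZD : ∀ z ∈ Z, z ∈ D₀ := by
    intro z hz
    exact (hD₀mem z).mpr ⟨h₀, hh₀, hh₀1, ((Subgroup.mem_center_iff.mp hz h₀)).symm⟩
  set Hn : Subgroup N := H.subgroupOf N with hHn
  have hHnN : Hn.Normal := (Subgroup.normal_subgroupOf_iff_le_normalizer hHN).mpr le_rfl
  letI : Fintype N := Fintype.ofFinite _
  letI : Fintype Hn := Fintype.ofFinite _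
  letI : Fintype Z := Fintype.ofFinite _
  set ψ : N → ℂ := fun n => χ n with hψ
  have hψc : IsCharacter N ψ := isCharacter_restrict N hχc
  set D : Finset N := D₀.subtype (· ∈ N) with hD
  have hDmem : ∀ g : N, g ∈ D ↔ (g : G) ∈ D₀ := fun g => Finset.mem_subtype
  have hmain := part_on_N (H := Hn) hHnN hψc
    ⟨⟨h₀, hHN hh₀⟩, Subgroup.mem_subgroupOf.mpr hh₀, hne₀⟩ D (by
      intro g hg y hy hyc
      by_contra hy1
      apply hg
      rw [hDmem]
      refine (hD₀mem _).mpr ⟨y, Subgroup.mem_subgroupOf.mp hy, ?_, ?_⟩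
      · intro h
        exact hy1 (Subtype.ext h)
      · exact (congrArg Subtype.val hyc).symm)
  have hsum2 : ∑ g ∈ D, Complex.normSq (ψ g) = ∑ g ∈ D₀, f g :=
    Finset.sum_subtype_of_mem f hD₀N
  set c : ℂ := classInner (fun h : H => χ h) (fun _ => 1) with hc
  have hc' : c = (Nat.card H : ℂ)⁻¹ * ∑ y : H, χ y := by
    simp [hc, classInner]
  have hcardHn : Nat.card Hn = Nat.card H :=
    Nat.card_congr (Subgroup.subgroupOfEquivOfLe hHN).toEquiv
  have hd0 : χ 1 ≠ 0 := irr_one_ne_zero hχ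
  have hsumHn : ∀ F : G → ℂ, ∑ y : Hn, F y = ∑ y : H, F y := by
    intro F
    exact Fintype.sum_equiv (Subgroup.subgroupOfEquivOfLe hHN).toEquiv _ _ fun y => rfl
  have hval : ∀ (z : G) (hz : z ∈ Z) (h : H) (hm : z * h ∈ N),
      Complex.normSq (avgFun Hn ψ ⟨z * h, hm⟩) = Complex.normSq c := by
    intro z hz h hm
    have e1 : avgFun Hn ψ ⟨z * h, hm⟩ = (Nat.card H : ℂ)⁻¹ * ∑ y : H, χ (y * (z * h)) := by
      rw [avgFun, hcardHn]
      congr 1
      exact hsumHn (fun y => χ (y * (z * h)))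
    have e2 : (∑ y : H, χ (y * (z * h))) * χ 1 = (∑ y : H, χ y) * χ z := by
      rw [Finset.sum_mul, Finset.sum_mul]
      calc ∑ y : H, χ (y * (z * h)) * χ 1 = ∑ y : H, χ ((y : G) * h) * χ z := by
            refine Finset.sum_congr rfl fun y _ => ?_
            have e0 : (y : G) * (z * h) = y * h * z := by
              rw [mul_assoc (y : G) (h : G) z, (Subgroup.mem_center_iff.mp hz h)]
            rw [e0, Cfsg.Agent.Lib.Char.CentralCount.char_mul_central hχ hz]
        _ = ∑ y : H, χ y * χ z := by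
            refine Fintype.sum_equiv (Equiv.mulRight h) _ _ fun y => by simp
    have e3 : avgFun Hn ψ ⟨z * h, hm⟩ * χ 1 = c * χ z := by
      rw [e1, hc', mul_assoc, e2, mul_assoc]
    have e4 := congrArg Complex.normSq e3
    rw [map_mul, map_mul, normSq_central hχ hz] at e4
    have hd1 : Complex.normSq (χ 1) ≠ 0 := by
      rw [Ne, map_eq_zero]; exact hd0
    exact mul_right_cancel₀ hd1 e4
  let μ : Z × H → N := fun p => ⟨p.1 * p.2, N.mul_mem (hZN p.1.2) (hHN p.2.2)⟩
  have hμinj : Function.Injective μ := by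
    rintro ⟨z, h⟩ ⟨z', h'⟩ hEq
    have e1 : (z : G) * h = z' * h' := congrArg Subtype.val hEq
    have e2 : (z' : G)⁻¹ * z = h' * (h : G)⁻¹ := by
      calc (z' : G)⁻¹ * z = (z' : G)⁻¹ * (z * h) * (h : G)⁻¹ := by group
        _ = h' * (h : G)⁻¹ := by rw [e1]; group
    have e3 : h' * (h : G)⁻¹ ∈ H ⊓ Subgroup.center G :=
      Subgroup.mem_inf.mpr ⟨H.mul_mem h'.2 (H.inv_mem h.2), by
        rw [← e2]; exact Z.mul_mem (Z.inv_mem z'.2) z.2⟩
    rw [hZ, Subgroup.mem_bot] at e3
    have e4 : (h' : G) = h := mul_inv_eq_one.mp e3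
    have e5 : (z : G) = z' := by
      rw [e4] at e1
      exact mul_right_cancel e1
    exact Prod.ext (Subtype.ext e5) (Subtype.ext e4.symm)
  have hlow : (Nat.card Z : ℝ) * (Nat.card H : ℝ) * Complex.normSq c ≤
      ∑ g ∈ D, Complex.normSq (avgFun Hn ψ g) := by
    have hsub : (Finset.univ.image μ) ⊆ D := by
      intro g hg
      obtain ⟨⟨z, h⟩, -, rfl⟩ := Finset.mem_image.mp hg
      rw [hDmem]
      by_cases hh1 : (h : G) = 1
      · refine (hD₀mem _).mpr ⟨h₀, hh₀, hh₀1, ?_⟩
        simp only [μ, hh1, mul_one]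
        exact (Subgroup.mem_center_iff.mp z.2 h₀).symm
      · refine (hD₀mem _).mpr ⟨h, h.2, hh1, ?_⟩
        change (z : G) * h * h = h * (z * h)
        rw [← mul_assoc (h : G), (Subgroup.mem_center_iff.mp z.2 (h : G))]
    calc (Nat.card Z : ℝ) * (Nat.card H : ℝ) * Complex.normSq c
        = ∑ g ∈ Finset.univ.image μ, Complex.normSq (avgFun Hn ψ g) := by
          rw [Finset.sum_image (fun a _ b _ hab => hμinj hab)]
          rw [Finset.sum_congr rfl (fun p _ => hval p.1 p.1.2 p.2 _)]
          rw [Finset.sum_const, Finset.card_univ, Fintype.card_prod, nsmul_eq_mul,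
            ← Nat.card_eq_fintype_card, ← Nat.card_eq_fintype_card]
          push_cast
          ring
      _ ≤ _ := Finset.sum_le_sum_of_subset_of_nonneg hsub (fun _ _ _ => Complex.normSq_nonneg _)
  set d : ℝ := Complex.normSq (χ 1) with hd
  have hdpos : 0 < d := by
    rw [hd, Complex.normSq_pos]; exact hd0
  have hdre : d = (χ 1).re ^ 2 := by
    rw [hd, Complex.normSq_apply]
    have : (χ 1).im = 0 := by
      rw [← charDegree_natCast hχc]; simp
    rw [this]; ring
  set A : Finset G := D₀.filter (· ∉ Z) with hA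
  have hsplit : ∑ g ∈ D₀, f g = ∑ g ∈ A, f g + (Nat.card Z : ℝ) * d := by
    rw [← Finset.sum_filter_not_add_sum_filter D₀ (· ∈ Z)]
    congr 1
    have : D₀.filter (· ∈ Z) = Finset.univ.filter (· ∈ Z) := by
      ext g
      simp only [Finset.mem_filter, Finset.mem_univ, true_and]
      exact ⟨fun h => h.2, fun h => ⟨hZD g h, h⟩⟩
    rw [this, Finset.sum_congr rfl (g := fun _ => d)]
    · rw [Finset.sum_const, card_filter_mem, nsmul_eq_mul]
    · intro g hg
      exact normSq_central hχ (Finset.mem_filter.mp hg).2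
  have hall : ∑ g : G, f g = (Nat.card G : ℝ) := by
    rw [sum_normSq_eq, classInner_self_of_isIrr hχ]
    simp
  have hnotZ : ∑ x ∈ (Finset.univ : Finset G).filter (· ∉ Z), f x =
      (Nat.card G : ℝ) - (Nat.card Z : ℝ) * d := by
    rw [eq_sub_iff_add_eq, ← hall, ← Finset.sum_filter_not_add_sum_filter Finset.univ (· ∈ Z)]
    congr 1
    rw [Finset.sum_congr rfl (g := fun _ => d)]
    · rw [Finset.sum_const, card_filter_mem, nsmul_eq_mul]
    · intro g hg
      exact normSq_central hχ (Finset.mem_filter.mp hg).2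
  have hdc := double_count hone A (by
    intro g hg
    obtain ⟨h1, h2⟩ := Finset.mem_filter.mp hg
    exact ⟨h2, (hD₀mem g).mp h1⟩) f (by
    intro a x
    simp only [hf]
    rw [hχcl]) (fun _ => Complex.normSq_nonneg _)
  rw [hnotZ] at hdc
  set S : ℝ := ∑ g ∈ A, f g with hS
  have hGpos : (0 : ℝ) < (Nat.card G : ℝ) := by exact_mod_cast (Nat.card_pos (α := G))
  have hNpos : (0 : ℝ) < (Nat.card N : ℝ) := by exact_mod_cast (Nat.card_pos (α := N))
  have hZpos : (0 : ℝ) < (Nat.card Z : ℝ) := by exact_mod_cast (Nat.card_pos (α := Z))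
  have h1 : (Nat.card Z : ℝ) * (Nat.card H : ℝ) * Complex.normSq c + (Nat.card N : ℝ) ≤
      S + (Nat.card Z : ℝ) * d := by
    rw [← hsplit, ← hsum2]
    linarith
  have hcc : c.re ^ 2 ≤ Complex.normSq c := by
    rw [Complex.normSq_apply]
    nlinarith [mul_self_nonneg c.im]
  have hHnn : (0 : ℝ) ≤ (Nat.card H : ℝ) := by positivity
  have h2 : (Nat.card G : ℝ) * ((Nat.card Z : ℝ) * (Nat.card H : ℝ) * Complex.normSq c) ≤
      (Nat.card Z : ℝ) * (((Nat.card G : ℝ) - (Nat.card N : ℝ)) * d) := by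
    have := mul_le_mul_of_nonneg_left h1 hGpos.le
    nlinarith
  have h3 : (Nat.card G : ℝ) * ((Nat.card H : ℝ) * Complex.normSq c) ≤
      ((Nat.card G : ℝ) - (Nat.card N : ℝ)) * d := by
    apply le_of_mul_le_mul_left _ hZpos
    nlinarith
  have h4 : (Nat.card G : ℝ) * ((Nat.card H : ℝ) * Complex.normSq c) < (Nat.card G : ℝ) * d := by
    nlinarith
  have h5 := lt_of_mul_lt_mul_left h4 hGpos.le
  rw [← hdre]
  have : (Nat.card H : ℝ) * c.re ^ 2 ≤ (Nat.card H : ℝ) * Complex.normSq c :=
    mul_le_mul_of_nonneg_left hcc hHnn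
  linarith

omit [Fintype G] in
theorem norm_restrict_ge {A : Type*} [Group A] [Fintype A] (hab : ∀ a b : A, a * b = b * a)
    {τ : A → ℂ} (hτ : IsCharacter A τ) : (τ 1).re ≤ (classInner τ τ).re := by
  classical
  have hτc := isClassFunction_of_isCharacter hτ
  set a : (A → ℂ) → ℂ := fun θ => classInner τ θ with ha
  have hsum : τ = fun g => ∑ θ ∈ irrFinset A, a θ * θ g := by
    funext g
    exact apply_eq_sum hτc g
  have hirr : ∀ θ ∈ irrFinset A, IsIrrCharacter A θ := fun θ hθ => mem_irrFinset.mp hθ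
  have e1 : classInner τ τ = ∑ θ ∈ irrFinset A, a θ * conj (a θ) := by
    conv_lhs => rw [hsum]
    rw [inner_sum_sum hirr hirr a a, Finset.inter_self]
  have e2 : τ 1 = ∑ θ ∈ irrFinset A, a θ := by
    conv_lhs => rw [hsum]
    refine Finset.sum_congr rfl fun θ hθ => ?_
    rw [Cfsg.Agent.Lib.Char.Linear.isIrr_deg_one_of_comm hab (hirr θ hθ), mul_one]
  rw [e1, e2, Complex.re_sum, Complex.re_sum]
  refine Finset.sum_le_sum fun θ hθ => ?_
  obtain ⟨n, hn⟩ := exists_nat_classInner hτ (isCharacter_of_isIrrCharacter (hirr θ hθ))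
  simp only [ha, hn]
  simp only [Complex.natCast_re, map_natCast, ← Nat.cast_mul]
  exact_mod_cast Nat.le_mul_self n

theorem second_bound (H : Subgroup G) [Fintype H] (hab : ∀ a ∈ H, ∀ b ∈ H, a * b = b * a)
    (hZ : H ⊓ Subgroup.center G = ⊥)
    (hone : ∀ g : G, g ∉ Subgroup.center G → ∀ a b : G,
      Subgroup.centralizer ({g} : Set G) ⊓ H.map (MulAut.conj a).toMonoidHom ≠ ⊥ →
      Subgroup.centralizer ({g} : Set G) ⊓ H.map (MulAut.conj b).toMonoidHom ≠ ⊥ →
      H.map (MulAut.conj a).toMonoidHom = H.map (MulAut.conj b).toMonoidHom)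
    {χ : G → ℂ} (hχ : IsIrrCharacter G χ) (hχ1 : χ 1 ≠ 1)
    (hM : ∀ M : Subgroup G, M.Normal → H ≤ M → M = ⊤) :
    (Nat.card H : ℝ) < (1 + (χ 1).re) ^ 2 := by
  classical
  have hχc := isCharacter_of_isIrrCharacter hχ
  set one : G → ℂ := fun _ => 1 with hone'
  have honeI : IsIrrCharacter G one := isIrr_one_fun G
  set ξ : G → ℂ := fun g => χ g * conj (χ g) with hξ
  have hξc : IsCharacter G ξ := by
    have : ξ = χ * (fun g => χ g⁻¹) := by
      funext g
      simp only [hξ, Pi.mul_apply]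
      rw [char_inv_eq_conj hχc]
    rw [this]
    exact isCharacter_mul hχc (isCharacter_inv hχc)
  have hξcl := isClassFunction_of_isCharacter hξc
  set m : (G → ℂ) → ℂ := fun η => classInner ξ η with hm
  have hirr : ∀ η ∈ irrFinset G, IsIrrCharacter G η := fun η hη => mem_irrFinset.mp hη
  have hnat : ∀ η ∈ irrFinset G, ∃ n : ℕ, m η = n := fun η hη =>
    exists_nat_classInner hξc (isCharacter_of_isIrrCharacter (hirr η hη))
  have hξapp : ∀ g, ξ g = ∑ η ∈ irrFinset G, m η * η g := fun g => apply_eq_sum hξcl g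
  have hmone : m one = 1 := by
    have : m one = classInner χ χ := by
      simp only [hm, classInner, hone', hξ, map_one, mul_one]
    rw [this, classInner_self_of_isIrr hχ]
  set χH : H → ℂ := fun h => χ h with hχH
  have hχHc : IsCharacter H χH := isCharacter_restrict H hχc
  set c : (G → ℂ) → ℂ := fun η => classInner (fun h : H => η h) (fun _ => 1) with hc
  have hcnat : ∀ η ∈ irrFinset G, ∃ n : ℕ, c η = n := fun η hη =>
    exists_nat_classInner (isCharacter_restrict H (isCharacter_of_isIrrCharacter (hirr η hη)))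
      isCharacter_one
  have hcdef : ∀ η, c η = (Nat.card H : ℂ)⁻¹ * ∑ y : H, η y := by
    intro η; simp [hc, classInner]
  have hcone : c one = 1 := by
    rw [hcdef]
    simp only [hone', Finset.sum_const, Finset.card_univ, nsmul_eq_mul, mul_one,
      ← Nat.card_eq_fintype_card]
    exact inv_mul_cancel₀ (card_subgroup_ne_zero H)
  have hti : classInner χH χH = ∑ η ∈ irrFinset G, m η * c η := by
    have e1 : classInner χH χH = (Nat.card H : ℂ)⁻¹ * ∑ y : H, ξ y := by
      simp only [classInner, hχH, hξ]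
    rw [e1, Finset.sum_congr rfl (fun (y : H) _ => hξapp y), Finset.sum_comm, Finset.mul_sum]
    refine Finset.sum_congr rfl fun η _ => ?_
    rw [hcdef, ← Finset.mul_sum]
    ring
  have hone1 : ξ 1 = ∑ η ∈ irrFinset G, m η * η 1 := hξapp 1
  -- real parts
  set M : (G → ℂ) → ℝ := fun η => (m η).re with hMdef
  set C : (G → ℂ) → ℝ := fun η => (c η).re with hCdef
  set E : (G → ℂ) → ℝ := fun η => (η 1).re with hEdef
  have hMnn : ∀ η ∈ irrFinset G, 0 ≤ M η := by
    intro η hη
    obtain ⟨n, hn⟩ := hnat η hη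
    simp only [hMdef, hn, Complex.natCast_re]
    positivity
  have hCnn : ∀ η ∈ irrFinset G, 0 ≤ C η := by
    intro η hη
    obtain ⟨n, hn⟩ := hcnat η hη
    simp only [hCdef, hn, Complex.natCast_re]
    positivity
  have hre_mul : ∀ η ∈ irrFinset G, ∀ w : ℂ, (m η * w).re = M η * w.re := by
    intro η hη w
    obtain ⟨n, hn⟩ := hnat η hη
    simp only [hMdef, hn, Complex.mul_re, Complex.natCast_re, Complex.natCast_im, zero_mul,
      sub_zero]
  have hsumC : (classInner χH χH).re = ∑ η ∈ irrFinset G, M η * C η := by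
    rw [hti, Complex.re_sum]
    exact Finset.sum_congr rfl fun η hη => hre_mul η hη _
  have hsumE : (ξ 1).re = ∑ η ∈ irrFinset G, M η * E η := by
    rw [hone1, Complex.re_sum]
    exact Finset.sum_congr rfl fun η hη => hre_mul η hη _
  have hχnat : χ 1 = (charDegree χ : ℂ) := (charDegree_natCast hχc).symm
  set x : ℝ := (χ 1).re with hx
  have hxdeg : x = (charDegree χ : ℝ) := by
    rw [hx, hχnat]; simp
  have hdeg2 : 2 ≤ charDegree χ := by
    have h0 : charDegree χ ≠ 0 := by
      intro h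
      apply irr_one_ne_zero hχ
      rw [hχnat, h]; simp
    have h1 : charDegree χ ≠ 1 := by
      intro h
      apply hχ1
      rw [hχnat, h]; simp
    omega
  have hx2 : (2 : ℝ) ≤ x := by
    rw [hxdeg]; exact_mod_cast hdeg2
  have hξ1 : (ξ 1).re = x ^ 2 := by
    simp only [hξ]
    rw [hχnat, hxdeg]
    simp [sq]
  have hone_mem : one ∈ irrFinset G := mem_irrFinset.mpr honeI
  have hEone : E one = 1 := by simp [hEdef, hone']
  have hCone : C one = 1 := by simp [hCdef, hcone]
  have hMone : M one = 1 := by simp [hMdef, hmone]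
  set s : ℝ := Real.sqrt (Nat.card H : ℝ) with hs
  have hs0 : 0 ≤ s := Real.sqrt_nonneg _
  have hs2 : s ^ 2 = (Nat.card H : ℝ) := Real.sq_sqrt (by positivity)
  have hkey : ∀ η ∈ (irrFinset G).erase one, s * C η < E η := by
    intro η hη
    obtain ⟨hne, hη'⟩ := Finset.mem_erase.mp hη
    have hηI := hirr η hη'
    have hηc := isCharacter_of_isIrrCharacter hηI
    have hker : ∃ h ∈ H, η h ≠ η 1 := by
      by_contra hcon
      push Not at hcon
      have hle : H ≤ charKer hηc := fun h hh => hcon h hh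
      have htop := hM _ (charKer_normal hηc) hle
      have hall : ∀ g, η g = η 1 := fun g => by
        have : g ∈ charKer hηc := by rw [htop]; trivial
        exact this
      have h1 : classInner η one = η 1 := by
        simp only [classInner, hone', map_one, mul_one]
        rw [Finset.sum_congr rfl (fun g _ => hall g), Finset.sum_const, Finset.card_univ,
          nsmul_eq_mul, ← Nat.card_eq_fintype_card, ← mul_assoc,
          inv_mul_cancel₀ card_ne_zero_complex, one_mul]
      rw [classInner_irr hηI honeI, if_neg hne] at h1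
      exact irr_one_ne_zero hηI h1.symm
    have hb := first_bound H hZ hone hηI hker
    have hE0 : 0 ≤ E η := by
      simp only [hEdef]
      rw [← charDegree_natCast hηc]
      simp
    apply lt_of_pow_lt_pow_left₀ 2 hE0
    rw [mul_pow, hs2]
    exact hb
  have herase : ∀ F : (G → ℂ) → ℝ, ∑ η ∈ irrFinset G, F η = F one + ∑ η ∈ (irrFinset G).erase one, F η :=
    fun F => (Finset.add_sum_erase _ F hone_mem).symm
  have hsumE' : ∑ η ∈ (irrFinset G).erase one, M η * E η = x ^ 2 - 1 := by
    have := herase (fun η => M η * E η)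
    simp only [hEone, hMone, mul_one] at this
    linarith [hsumE]
  have hsumC' : ∑ η ∈ (irrFinset G).erase one, M η * C η = (classInner χH χH).re - 1 := by
    have := herase (fun η => M η * C η)
    simp only [hCone, hMone, mul_one] at this
    linarith [hsumC]
  have hstrict : s * ((classInner χH χH).re - 1) < x ^ 2 - 1 := by
    rw [← hsumC', ← hsumE', Finset.mul_sum]
    apply Finset.sum_lt_sum
    · intro η hη
      have h1 := hkey η hη
      have h2 := hMnn η (Finset.mem_of_mem_erase hη)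
      nlinarith
    · -- some `M η > 0`
      by_contra hcon
      push Not at hcon
      have hz : ∑ η ∈ (irrFinset G).erase one, M η * E η ≤ 0 := by
        refine Finset.sum_nonpos fun η hη => ?_
        have h1 := hkey η hη
        have h2 := hMnn η (Finset.mem_of_mem_erase hη)
        have h3 := hcon η hη
        have h4 : M η = 0 := by
          by_contra hne
          have h5 : 0 < M η := lt_of_le_of_ne h2 (Ne.symm hne)
          have : s * (M η * C η) < M η * E η := by nlinarith
          linarith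
        rw [h4, zero_mul]
      rw [hsumE'] at hz
      nlinarith
  have hge : x ≤ (classInner χH χH).re := norm_restrict_ge (A := H)
    (fun a b => Subtype.ext (hab a a.2 b b.2)) hχHc
  have h5 : s * (x - 1) < (x - 1) * (x + 1) := by
    have : s * (x - 1) ≤ s * ((classInner χH χH).re - 1) :=
      mul_le_mul_of_nonneg_left (by linarith) hs0
    nlinarith
  have h6 : s < x + 1 := by
    have hx1 : 0 < x - 1 := by linarith
    have : (x - 1) * s < (x - 1) * (x + 1) := by nlinarith
    exact lt_of_mul_lt_mul_left this hx1.le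
  rw [← hs2]
  nlinarith

end GLevel

end Cfsg.Agent.Lib.CharDeep.FTBound
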