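import Cfsg.Agent.Lib.Char.Extend
import Cfsg.Agent.Lib.Char.DegDvd
import Cfsg.Agent.Lib.Involutions2.NormalFour

/-!
# Characters induced from maximal subgroups: group theoretic and counting tools

* `exists_minimal_normal_above`: a minimal normal subgroup above a proper normal subgroup.
* `commutator_le_of_chief`, `exists_prime_relIndex`: chief factors of solvable groups.
* `central_of_pgroup`: a chief factor inside a `p`-section is central.
* `sum_mul_sum_eq`: sums over products `K H`.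
* `indFun_eq_sum_normal`: the induced function as a sum over a normal supplement.
* `isIrr_of_le`: a character with irreducible restriction is irreducible.
-/

set_option autoImplicit false
set_option linter.unusedSectionVars false

namespace Cfsg.Agent.Lib.CharDeep.MaxInd

open Cfsg Module
open Cfsg.Agent.Lib.Char.Basic Cfsg.Agent.Lib.Char.Ortho Cfsg.Agent.Lib.Char.Complete
open Cfsg.Agent.Lib.Char.Induced
open scoped ComplexConjugate

universe u

section Chief

variable {G : Type u} [Group G] [Finite G]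

/-- Minimal normal subgroups above a proper normal subgroup. -/
theorem exists_minimal_normal_above (A : Subgroup G) (hA : A ≠ ⊤) :
    ∃ B : Subgroup G, B.Normal ∧ A < B ∧ ∀ X : Subgroup G, X.Normal → A ≤ X → X ≤ B → X = A ∨ X = B := by
  classical
  have : Finite (Subgroup G) := inferInstance
  let S : Set (Subgroup G) := {B | B.Normal ∧ A < B}
  have hS : S.Nonempty := ⟨⊤, inferInstance, lt_top_iff_ne_top.mpr hA⟩
  obtain ⟨B, hB, hmin⟩ := WellFounded.has_min (wellFounded_lt (α := Subgroup G)) S hS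
  refine ⟨B, hB.1, hB.2, fun X hX hAX hXB => ?_⟩
  by_cases h1 : X = A
  · exact Or.inl h1
  · right
    by_contra h2
    exact hmin X ⟨hX, lt_of_le_of_ne hAX (Ne.symm h1)⟩ (lt_of_le_of_ne hXB h2)

/-- Chief factors above a normal subgroup with solvable quotient are abelian. -/
theorem commutator_le_of_chief {L A B : Subgroup G} [L.Normal] [hA : A.Normal] [hB : B.Normal]
    (hsolv : Group.IsSolvable (G ⧸ L)) (hLA : L ≤ A) (hAB : A < B)
    (hchief : ∀ X : Subgroup G, X.Normal → A ≤ X → X ≤ B → X = A ∨ X = B) : ⁅B, B⁆ ≤ A := by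
  have hs : Group.IsSolvable (G ⧸ A) := by
    let f : G ⧸ L →* G ⧸ A := QuotientGroup.map L A (MonoidHom.id G) hLA
    have hf : Function.Surjective f := by
      intro x
      obtain ⟨g, rfl⟩ := QuotientGroup.mk_surjective x
      exact ⟨(g : G ⧸ L), rfl⟩
    haveI := hsolv
    exact Group.isSolvable_of_surjective hf
  let q := QuotientGroup.mk' A
  have hne : B.map q ≠ ⊥ := by
    intro h
    rw [Subgroup.map_eq_bot_iff, QuotientGroup.ker_mk'] at h
    exact absurd h (not_le_of_gt hAB)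
  have hlt := Group.IsSolvable.commutator_lt_of_ne_bot hne
  have hcn : (⁅B, B⁆ ⊔ A).Normal := Subgroup.sup_normal _ _
  have hle : ⁅B, B⁆ ⊔ A ≤ B := sup_le (Subgroup.commutator_le_left B B) hAB.le
  rcases hchief _ hcn le_sup_right hle with h | h
  · rw [← h]
    exact le_sup_left
  · exfalso
    have h1 : B.map q ≤ (⁅B, B⁆).map q := by
      conv_lhs => rw [← h]
      rw [Subgroup.map_sup]
      apply sup_le le_rfl
      have : A.map q = ⊥ := by
        rw [Subgroup.map_eq_bot_iff, QuotientGroup.ker_mk']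
      rw [this]
      exact bot_le
    rw [Subgroup.map_commutator] at h1
    exact absurd h1 (not_le_of_gt hlt)

/-- An abelian chief factor has prime power order. -/
theorem exists_prime_relIndex {A B : Subgroup G} [hA : A.Normal] [hB : B.Normal]
    (hcomm : ⁅B, B⁆ ≤ A) (hAB : A < B)
    (hchief : ∀ X : Subgroup G, X.Normal → A ≤ X → X ≤ B → X = A ∨ X = B) :
    ∃ p a : ℕ, p.Prime ∧ A.relIndex B = p ^ a ∧ 0 < a := by
  classical
  have hcm : ∀ x ∈ B, ∀ y ∈ B, x * y * x⁻¹ * y⁻¹ ∈ A := fun x hx y hy =>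
    hcomm (Subgroup.commutator_mem_commutator hx hy)
  have hI : A.relIndex B ≠ 1 := by
    intro h
    rw [Subgroup.relIndex_eq_one] at h
    exact absurd h (not_le_of_gt hAB)
  obtain ⟨p, hp, hpd⟩ := Nat.exists_prime_and_dvd hI
  have := Fact.mk hp
  -- the elements of `B` with a `p`-power in `A`
  have hmulpow : ∀ x ∈ B, ∀ y ∈ B, ∀ n : ℕ, (x * y) ^ n * (x ^ n * y ^ n)⁻¹ ∈ A := by
    intro x hx y hy n
    have hquot : ((x * y : G) : G ⧸ A) ^ n = ((x : G) : G ⧸ A) ^ n * ((y : G) : G ⧸ A) ^ n := by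
      have hc : Commute ((x : G) : G ⧸ A) ((y : G) : G ⧸ A) := by
        have h1 := hcm x hx y hy
        have h2 : ((x * y * x⁻¹ * y⁻¹ : G) : G ⧸ A) = 1 := (QuotientGroup.eq_one_iff _).mpr h1
        simp only [QuotientGroup.mk_mul, QuotientGroup.mk_inv] at h2
        have h3 : ((x : G) : G ⧸ A) * ((y : G) : G ⧸ A) * ((x : G) : G ⧸ A)⁻¹ = ((y : G) : G ⧸ A) :=
          mul_inv_eq_one.mp h2
        exact mul_inv_eq_iff_eq_mul.mp h3
      rw [QuotientGroup.mk_mul, hc.mul_pow]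
    have h4 : (((x * y) ^ n * (x ^ n * y ^ n)⁻¹ : G) : G ⧸ A) = 1 := by
      simp only [QuotientGroup.mk_mul, QuotientGroup.mk_inv, QuotientGroup.mk_pow] at hquot ⊢
      rw [hquot]
      simp
    exact (QuotientGroup.eq_one_iff _).mp h4
  let Bp : Subgroup G :=
    { carrier := {x | x ∈ B ∧ ∃ t : ℕ, x ^ p ^ t ∈ A}
      one_mem' := ⟨B.one_mem, 0, by simp [A.one_mem]⟩
      mul_mem' := by
        rintro x y ⟨hx, s, hs⟩ ⟨hy, t, ht⟩
        refine ⟨B.mul_mem hx hy, s + t, ?_⟩
        have h1 := hmulpow x hx y hy (p ^ (s + t))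
        have h2 : x ^ p ^ (s + t) * y ^ p ^ (s + t) ∈ A := by
          apply A.mul_mem
          · rw [pow_add, pow_mul]
            exact A.pow_mem hs _
          · rw [add_comm, pow_add, pow_mul]
            exact A.pow_mem ht _
        have h3 := A.mul_mem h1 h2
        rwa [inv_mul_cancel_right] at h3
      inv_mem' := by
        rintro x ⟨hx, s, hs⟩
        refine ⟨B.inv_mem hx, s, ?_⟩
        rw [inv_pow]
        exact A.inv_mem hs }
  have hBpn : Bp.Normal := by
    constructor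
    rintro x ⟨hx, s, hs⟩ g
    refine ⟨hB.conj_mem x hx g, s, ?_⟩
    rw [conj_pow]
    exact hA.conj_mem _ hs g
  have hABp : A ≤ Bp := fun x hx => ⟨hAB.le hx, 0, by simpa using hx⟩
  have hBpB : Bp ≤ B := fun x hx => hx.1
  have hne : Bp ≠ A := by
    haveI : (A.subgroupOf B).Normal := Subgroup.Normal.subgroupOf hA B
    have hcauchy : p ∣ Nat.card (↥B ⧸ A.subgroupOf B) := hpd
    obtain ⟨z, hz⟩ := exists_prime_orderOf_dvd_card' p hcauchy
    obtain ⟨x, rfl⟩ := QuotientGroup.mk_surjective z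
    have hx1 : (x : G) ∉ A := by
      intro h
      have : ((x : ↥B) : ↥B ⧸ A.subgroupOf B) = 1 :=
        (QuotientGroup.eq_one_iff _).mpr (Subgroup.mem_subgroupOf.mpr h)
      rw [this, orderOf_one] at hz
      exact hp.one_lt.ne hz
    have hx2 : (x : G) ^ p ∈ A := by
      have h1 : ((x : ↥B) : ↥B ⧸ A.subgroupOf B) ^ p = 1 := by
        rw [← hz]
        exact pow_orderOf_eq_one _
      rw [← QuotientGroup.mk_pow, QuotientGroup.eq_one_iff] at h1
      simpa using Subgroup.mem_subgroupOf.mp h1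
    intro h
    apply hx1
    rw [← h]
    exact ⟨x.2, 1, by simpa using hx2⟩
  have hBpeq : Bp = B := by
    rcases hchief Bp hBpn hABp hBpB with h | h
    · exact absurd h hne
    · exact h
  haveI : (A.subgroupOf B).Normal := Subgroup.Normal.subgroupOf hA B
  have hpg : IsPGroup p (↥B ⧸ A.subgroupOf B) := by
    intro z
    obtain ⟨x, rfl⟩ := QuotientGroup.mk_surjective z
    have hxB : (x : G) ∈ Bp := by
      rw [hBpeq]
      exact x.2
    obtain ⟨-, t, ht⟩ := hxB
    refine ⟨t, ?_⟩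
    rw [← QuotientGroup.mk_pow, QuotientGroup.eq_one_iff, Subgroup.mem_subgroupOf]
    simpa using ht
  obtain ⟨a, ha⟩ := IsPGroup.iff_card.mp hpg
  refine ⟨p, a, hp, ha, ?_⟩
  rcases Nat.eq_zero_or_pos a with h0 | h0
  · exfalso
    apply hI
    rw [h0, pow_zero] at ha
    exact ha
  · exact h0

/-- A chief factor in a `p`-section is central in it. -/
theorem central_of_pgroup {C K M : Subgroup G} [hC : C.Normal] [hK : K.Normal] [hM : M.Normal]
    (hCK : C < K) (hKM : K ≤ M)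
    (hchief : ∀ X : Subgroup G, X.Normal → C ≤ X → X ≤ K → X = C ∨ X = K)
    {p t : ℕ} (hp : p.Prime) (ht : C.relIndex M = p ^ t) :
    ∀ k ∈ K, ∀ m ∈ M, k * m * k⁻¹ * m⁻¹ ∈ C := by
  classical
  have := Fact.mk hp
  let Z : Subgroup G :=
    { carrier := {x | x ∈ K ∧ ∀ m ∈ M, x * m * x⁻¹ * m⁻¹ ∈ C}
      one_mem' := ⟨K.one_mem, fun m _ => by simp [C.one_mem]⟩
      mul_mem' := by
        rintro x y ⟨hx, hx'⟩ ⟨hy, hy'⟩
        refine ⟨K.mul_mem hx hy, fun m hm => ?_⟩
        have h1 : x * y * m * (x * y)⁻¹ * m⁻¹ =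
            x * (y * m * y⁻¹ * m⁻¹) * x⁻¹ * (x * m * x⁻¹ * m⁻¹) := by group
        rw [h1]
        apply C.mul_mem _ (hx' m hm)
        exact hC.conj_mem _ (hy' m hm) x
      inv_mem' := by
        rintro x ⟨hx, hx'⟩
        refine ⟨K.inv_mem hx, fun m hm => ?_⟩
        have h1 : x⁻¹ * m * x⁻¹⁻¹ * m⁻¹ = x⁻¹ * ((x * m * x⁻¹ * m⁻¹)⁻¹) * x := by group
        rw [h1]
        have := hC.conj_mem _ (C.inv_mem (hx' m hm)) x⁻¹
        simpa using this }
  have hZn : Z.Normal := by
    constructor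
    rintro x ⟨hx, hx'⟩ g
    refine ⟨hK.conj_mem x hx g, fun m hm => ?_⟩
    have h1 : g * x * g⁻¹ * m * (g * x * g⁻¹)⁻¹ * m⁻¹ =
        g * (x * (g⁻¹ * m * g) * x⁻¹ * (g⁻¹ * m * g)⁻¹) * g⁻¹ := by group
    rw [h1]
    apply hC.conj_mem
    apply hx'
    have := hM.conj_mem m hm g⁻¹
    simpa using this
  have hCZ : C ≤ Z := by
    intro x hx
    refine ⟨hCK.le hx, fun m _ => ?_⟩
    have h1 : x * m * x⁻¹ * m⁻¹ = x * (m * x⁻¹ * m⁻¹) := by group
    rw [h1]
    exact C.mul_mem hx (hC.conj_mem _ (C.inv_mem hx) m)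
  have hZK : Z ≤ K := fun x hx => hx.1
  -- the quotient is a `p`-group
  let C' : Subgroup M := C.subgroupOf M
  haveI hC' : C'.Normal := Subgroup.Normal.subgroupOf hC M
  have hQ : IsPGroup p (↥M ⧸ C') := IsPGroup.of_card ht
  let q : ↥M →* ↥M ⧸ C' := QuotientGroup.mk' C'
  let K' : Subgroup (↥M ⧸ C') := (K.subgroupOf M).map q
  haveI hK'n : K'.Normal := by
    haveI : (K.subgroupOf M).Normal := Subgroup.Normal.subgroupOf hK M
    exact Subgroup.Normal.map inferInstance q (QuotientGroup.mk'_surjective _)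
  have hK'ne : K' ≠ ⊥ := by
    intro h
    rw [Subgroup.map_eq_bot_iff] at h
    obtain ⟨x, hx, hxC⟩ := SetLike.exists_of_lt hCK
    have h2 : (⟨x, hKM hx⟩ : M) ∈ K.subgroupOf M := Subgroup.mem_subgroupOf.mpr hx
    have h3 := h h2
    rw [QuotientGroup.ker_mk'] at h3
    exact hxC (Subgroup.mem_subgroupOf.mp h3)
  have hne := Cfsg.Agent.Lib.Involutions2.NormalFour.inf_center_ne_bot hQ K' hK'ne
  obtain ⟨z, hz, hz1⟩ := Subgroup.ne_bot_iff_exists_ne_one.mp hne |>.elim (fun y hy => (⟨y.1, y.2, by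
      intro h
      exact hy (Subtype.ext h)⟩ : ∃ z, z ∈ K' ⊓ Subgroup.center (↥M ⧸ C') ∧ z ≠ 1))
  obtain ⟨hzK, hzc⟩ := hz
  obtain ⟨x, hx, rfl⟩ := hzK
  have hxK : (x : G) ∈ K := Subgroup.mem_subgroupOf.mp hx
  have hxZ : (x : G) ∈ Z := by
    refine ⟨hxK, fun m hm => ?_⟩
    have h1 := Subgroup.mem_center_iff.mp hzc (q ⟨m, hm⟩)
    have h2 : q (⟨m, hm⟩ * x * (⟨m, hm⟩ : M)⁻¹ * x⁻¹) = 1 := by
      simp only [map_mul, map_inv]
      rw [h1]
      simp
    rw [← MonoidHom.mem_ker, QuotientGroup.ker_mk', Subgroup.mem_subgroupOf] at h2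
    simp only [Subgroup.coe_mul, Subgroup.coe_inv] at h2
    have h3 := C.inv_mem h2
    have h4 : x * m * (x : G)⁻¹ * m⁻¹ = (m * x * m⁻¹ * (x : G)⁻¹)⁻¹ := by group
    rw [h4]
    exact h3
  have hxC : (x : G) ∉ C := by
    intro h
    apply hz1
    have : x ∈ q.ker := by
      rw [QuotientGroup.ker_mk']
      exact Subgroup.mem_subgroupOf.mpr h
    exact this
  have hZne : Z ≠ C := by
    intro h
    rw [h] at hxZ
    exact hxC hxZ
  have hZeq : Z = K := by
    rcases hchief Z hZn hCZ hZK with h | h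
    · exact absurd h hZne
    · exact h
  intro k hk m hm
  rw [← hZeq] at hk
  exact hk.2 m hm

end Chief

section Sums

variable {G : Type u} [Group G] [Fintype G]

/-- Sums over a product of subgroups. -/
theorem sum_mul_sum_eq (H K : Subgroup G) [Fintype H] [Fintype K]
    (hKH : ∀ g : G, ∃ k ∈ K, ∃ h ∈ H, g = k * h) (F : G → ℂ) :
    ∑ k : K, ∑ h : H, F (k * h) = (Nat.card ↥(H ⊓ K) : ℂ) * ∑ g : G, F g := by
  classical
  have h1 : ∑ k : K, ∑ h : H, F (k * h) = ∑ p : K × H, F (p.1 * p.2) :=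
    (Fintype.sum_prod_type' (fun (k : K) (h : H) => F (k * h))).symm
  rw [h1, ← Finset.sum_fiberwise Finset.univ (fun p : K × H => (p.1 : G) * p.2), Finset.mul_sum]
  refine Finset.sum_congr rfl fun g _ => ?_
  have h2 : ∑ p ∈ Finset.univ.filter (fun p : K × H => (p.1 : G) * p.2 = g), F (p.1 * p.2) =
      ∑ p ∈ Finset.univ.filter (fun p : K × H => (p.1 : G) * p.2 = g), F g :=
    Finset.sum_congr rfl fun p hp => by
      rw [(Finset.mem_filter.mp hp).2]
  rw [h2, Finset.sum_const, nsmul_eq_mul]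
  congr 2
  obtain ⟨k₀, hk₀, h₀, hh₀, rfl⟩ := hKH g
  let e : ↥(H ⊓ K) ≃ {p : K × H // (p.1 : G) * p.2 = k₀ * h₀} :=
    { toFun := fun c => ⟨(⟨k₀ * c, K.mul_mem hk₀ c.2.2⟩, ⟨(c : G)⁻¹ * h₀, H.mul_mem (H.inv_mem c.2.1) hh₀⟩),
        by simp [mul_assoc]⟩
      invFun := fun p => ⟨k₀⁻¹ * p.1.1, by
        refine ⟨?_, K.mul_mem (K.inv_mem hk₀) p.1.1.2⟩
        have h3 : k₀⁻¹ * (p.1.1 : G) = h₀ * (p.1.2 : G)⁻¹ := by
          have h5 : (p.1.1 : G) = k₀ * h₀ * (p.1.2 : G)⁻¹ := eq_mul_inv_of_mul_eq p.2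
          calc k₀⁻¹ * (p.1.1 : G) = k₀⁻¹ * (k₀ * h₀ * (p.1.2 : G)⁻¹) := congrArg _ h5
            _ = h₀ * (p.1.2 : G)⁻¹ := by group
        rw [h3]
        exact H.mul_mem hh₀ (H.inv_mem p.1.2.2)⟩
      left_inv := fun c => Subtype.ext (by simp)
      right_inv := fun p => by
        apply Subtype.ext
        apply Prod.ext
        · apply Subtype.ext
          simp
        · apply Subtype.ext
          have h4 := p.2
          simp only [Subgroup.coe_mul, Subgroup.coe_inv, mul_inv_rev, inv_inv]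
          calc ((p.1.1 : G))⁻¹ * k₀ * h₀ = ((p.1.1 : G))⁻¹ * (k₀ * h₀) := by group
            _ = ((p.1.1 : G))⁻¹ * ((p.1.1 : G) * p.1.2) := congrArg _ h4.symm
            _ = p.1.2 := by group }
  rw [Nat.card_congr e, Nat.card_eq_fintype_card, Fintype.card_subtype]

/-- The induced function as a sum over a normal supplement. -/
theorem indFun_eq_sum_normal (H K : Subgroup G) [Fintype H] [Fintype K] [hK : K.Normal]
    (htop : H ⊔ K = ⊤) {ϑ : H → ℂ} (hϑ : IsClassFunction H ϑ) (x : G) :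
    indFun H ϑ x = (Nat.card ↥(H ⊓ K) : ℂ)⁻¹ * ∑ k : K, extendByZero H ϑ ((k : G)⁻¹ * x * k) := by
  classical
  have hKH : ∀ g : G, ∃ k ∈ K, ∃ h ∈ H, g = k * h := by
    intro g
    have h1 : g ∈ ((K ⊔ H : Subgroup G) : Set G) := by
      rw [sup_comm, htop]
      exact Subgroup.mem_top g
    rw [Subgroup.normal_mul] at h1
    obtain ⟨k, hk, h, hh, rfl⟩ := Set.mem_mul.mp h1
    exact ⟨k, hk, h, hh, rfl⟩
  have h2 := sum_mul_sum_eq H K hKH (fun g => extendByZero H ϑ (g⁻¹ * x * g))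
  have h3 : ∀ k : K, ∑ h : H, extendByZero H ϑ (((k : G) * h)⁻¹ * x * (k * h)) =
      (Nat.card H : ℂ) * extendByZero H ϑ ((k : G)⁻¹ * x * k) := by
    intro k
    have h4 : ∀ h : H, extendByZero H ϑ (((k : G) * h)⁻¹ * x * (k * h)) =
        extendByZero H ϑ ((k : G)⁻¹ * x * k) := by
      intro h
      have h5 := extendByZero_conj_of_isClassFunction H ϑ hϑ h⁻¹ ((k : G)⁻¹ * x * k)
      rw [← h5]
      congr 1
      simp [mul_assoc]
    simp only [h4, Finset.sum_const, Finset.card_univ, nsmul_eq_mul, ← Nat.card_eq_fintype_card]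
  simp only [h3] at h2
  rw [← Finset.mul_sum] at h2
  rw [indFun_apply]
  have hH0 : (Nat.card H : ℂ) ≠ 0 := card_subgroup_ne_zero H
  have hC0 : (Nat.card ↥(H ⊓ K) : ℂ) ≠ 0 := card_subgroup_ne_zero _
  field_simp
  linear_combination -h2

/-- A character with irreducible restriction is irreducible. -/
theorem isIrr_of_le {G : Type u} [Group G] [Finite G] {A B : Subgroup G} (hAB : A ≤ B) {f : B → ℂ}
    (hf : IsCharacter B f) (h : IsIrrCharacter A (fun a : A => f ⟨a, hAB a.2⟩)) :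
    IsIrrCharacter B f :=
  Cfsg.Agent.Lib.Char.Extend.isIrrCharacter_of_comp_isIrr (Subgroup.inclusion hAB) hf h

/-- Sums over a smaller subgroup. -/
theorem sum_subgroup_eq {S T : Subgroup G} [Fintype S] [Fintype T] (hST : S ≤ T) (f : T → ℂ)
    (hf : ∀ t : T, (t : G) ∉ S → f t = 0) :
    ∑ t : T, f t = ∑ s : S, f ⟨s, hST s.2⟩ := by
  symm
  apply Finset.sum_of_injOn (fun s : S => (⟨s, hST s.2⟩ : T))
  · intro a _ b _ hab
    exact Subtype.ext (congrArg (fun e : T => (e : G)) hab)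
  · intro a _
    exact Finset.mem_coe.mpr (Finset.mem_univ _)
  · intro e _ he
    apply hf
    intro h
    exact he ⟨⟨e, h⟩, by simp, rfl⟩
  · intro i _
    rfl

theorem sum_eq_sum_subgroup (N : Subgroup G) [Fintype N] (f : G → ℂ) (hf : ∀ e : G, e ∉ N → f e = 0) :
    ∑ e : G, f e = ∑ x : N, f x := by
  symm
  apply Finset.sum_of_injOn (fun x : N => (x : G))
  · intro a _ b _ hab
    exact Subtype.ext hab
  · intro a _
    exact Finset.mem_coe.mpr (Finset.mem_univ _)
  · intro e _ he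
    apply hf
    intro h
    exact he ⟨⟨e, h⟩, by simp, rfl⟩
  · intro i _
    rfl

/-- The product formula. -/
theorem card_formula (E N : Subgroup G) [N.Normal] :
    (E ⊔ N).index * Nat.card E * Nat.card N = Nat.card G * Nat.card ↥(E ⊓ N) := by
  have h1 : N.relIndex (E ⊔ N) = N.relIndex E := Subgroup.relIndex_sup_right E N
  have h2 : (⊥ : Subgroup G).relIndex N * N.relIndex (E ⊔ N) = (⊥ : Subgroup G).relIndex (E ⊔ N) :=
    Subgroup.relIndex_mul_relIndex _ _ _ bot_le le_sup_right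
  have h3 : (⊥ : Subgroup G).relIndex (E ⊓ N) * (E ⊓ N).relIndex E = (⊥ : Subgroup G).relIndex E :=
    Subgroup.relIndex_mul_relIndex _ _ _ bot_le inf_le_left
  have h4 : (E ⊓ N).relIndex E = N.relIndex E := by
    rw [inf_comm]
    exact Subgroup.inf_relIndex_right _ _
  simp only [Subgroup.relIndex_bot_left] at h2 h3
  rw [h1] at h2
  rw [h4] at h3
  have h5 := (E ⊔ N).index_mul_card
  rw [← h5, ← h2, ← h3]
  ring

end Sums

end Cfsg.Agent.Lib.CharDeep.MaxInd
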