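import Cfsg.Agent.Lib.Coh.FrobDeg
import Cfsg.Agent.Lib.Coh.Basic
import Cfsg.Agent.Lib.CharDeep.MaxInd
import Cfsg.Agent.Lib.Char.GenLattice

/-!
# The relevant characters of a Frobenius group

`H` is a normal subgroup of `N` containing the centralizers of its non-identity elements.
The characters nontrivial on `H` vanish off `H`, have degree `[N:H] * a` with `a` dividing `|H|`,
and satisfy the two sum formulas; a generalized character which is orthogonal to all their
combinations of degree zero is a constant integer on `H ∖ 1`.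
-/

set_option autoImplicit false
set_option linter.unusedSectionVars false

namespace Cfsg.Agent.Lib.CharDeep.FrobRelevant

open Cfsg
open Cfsg.Agent.Lib.Char.Ortho Cfsg.Agent.Lib.Char.Basic Cfsg.Agent.Lib.Char.Complete
  Cfsg.Agent.Lib.Char.Degree Cfsg.Agent.Lib.Char.Induced Cfsg.Agent.Lib.Char.GenLattice
  Cfsg.Agent.Lib.Coh.DegSum Cfsg.Agent.Lib.Coh.FrobDeg Cfsg.Agent.Lib.OddChar.FixedClass
  Cfsg.Agent.Lib.CharDeep.MaxInd
open scoped ComplexConjugate

variable {N : Type*} [Group N] [Fintype N]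

theorem apply_eq_sum {ψ : N → ℂ} (hψ : IsClassFunction N ψ) (x : N) :
    ψ x = ∑ θ ∈ irrFinset N, classInner ψ θ * θ x := by
  classical
  have := finite_irrCharacter (G := N)
  letI := Fintype.ofFinite (IrrCharacter N)
  have h1 := congrFun (classFunction_eq_sum hψ) x
  rw [sum_irrFinset_eq (fun θ => classInner ψ θ * θ x)]
  rw [h1, Finset.sum_apply]
  simp only [Pi.smul_apply, smul_eq_mul]

theorem sum_deg_mul {x : N} (hx : x ≠ 1) : ∑ θ ∈ irrFinset N, θ 1 * θ x = 0 := by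
  classical
  have := finite_irrCharacter (G := N)
  letI := Fintype.ofFinite (IrrCharacter N)
  rw [sum_irrFinset_eq (fun θ => θ 1 * θ x)]
  have h1 := sum_irr_mul_conj x (1 : N)
  rw [if_neg (by rwa [isConj_comm, isConj_one_right])] at h1
  rw [← h1]
  refine Finset.sum_congr rfl fun χ _ => ?_
  have h2 : conj ((χ : N → ℂ) 1) = (χ : N → ℂ) 1 := by
    rw [← charDegree_natCast (isCharacter_of_isIrrCharacter χ.2)]
    simp
  rw [h2, mul_comm]

theorem sum_deg_sq : ∑ θ ∈ irrFinset N, θ 1 * θ 1 = (Nat.card N : ℂ) := by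
  rw [← sum_irrFinset_sq]
  push_cast
  refine Finset.sum_congr rfl fun χ hχ => ?_
  rw [charDegree_natCast (isCharacter_of_isIrrCharacter (mem_irrFinset.mp hχ)), sq]

variable {H : Subgroup N}

open Classical in
/-- The irreducible characters trivial on `H`. -/
noncomputable def trivOn (H : Subgroup N) : Finset (N → ℂ) := irrFinset N \ nontrivOn H

theorem mem_trivOn {τ : N → ℂ} : τ ∈ trivOn H ↔ IsIrrCharacter N τ ∧ ∀ h ∈ H, τ h = τ 1 := by
  classical
  simp only [trivOn, Finset.mem_sdiff, mem_irrFinset, mem_nontrivOn]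
  constructor
  · rintro ⟨h1, h2⟩
    refine ⟨h1, fun h hh => ?_⟩
    by_contra hne
    exact h2 ⟨h1, h, hh, hne⟩
  · rintro ⟨h1, h2⟩
    refine ⟨h1, ?_⟩
    rintro ⟨-, h, hh, hne⟩
    exact hne (h2 h hh)

theorem nontrivOn_subset : nontrivOn H ⊆ irrFinset N := by
  intro χ hχ
  exact mem_irrFinset.mpr (mem_nontrivOn.mp hχ).1

theorem sum_split {M : Type*} [AddCommMonoid M] (F : (N → ℂ) → M) :
    ∑ θ ∈ irrFinset N, F θ = ∑ θ ∈ nontrivOn H, F θ + ∑ θ ∈ trivOn H, F θ := by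
  classical
  rw [trivOn, add_comm]
  exact (Finset.sum_sdiff nontrivOn_subset).symm

theorem index_ne_zero_complex (H : Subgroup N) : (H.index : ℂ) ≠ 0 := by
  exact_mod_cast (Subgroup.index_ne_zero_of_finite (H := H))

section Frob

variable (hN : H.Normal) (hC : ∀ h ∈ H, h ≠ 1 → Subgroup.centralizer ({h} : Set N) ≤ H)

include hN hC

theorem vanish_off {χ : N → ℂ} (hχ : χ ∈ nontrivOn H) {x : N} (hx : x ∉ H) : χ x = 0 := by
  classical
  obtain ⟨θ, -, -, rfl⟩ := exists_ind hN hC hχ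
  rw [indFun_apply]
  apply mul_eq_zero_of_right
  apply Finset.sum_eq_zero
  intro g _
  apply extendByZero_of_not_mem
  intro h
  apply hx
  have := hN.conj_mem _ h g
  simpa [mul_assoc] using this

/-- The degree of a relevant character divided by `[N:H]`. -/
theorem exists_rdeg {χ : N → ℂ} (hχ : χ ∈ nontrivOn H) :
    ∃ a : ℕ, 0 < a ∧ a ∣ Nat.card H ∧ charDegree χ = H.index * a := by
  classical
  obtain ⟨θ, hθ, -, rfl⟩ := exists_ind hN hC hχ
  exact ⟨charDegree θ, charDegree_pos hθ, charDegree_dvd_card hθ,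
    charDegree_ind (isCharacter_of_isIrrCharacter hθ)⟩

end Frob

/-- The degree of a character divided by `[N:H]`. -/
noncomputable def rdeg (H : Subgroup N) (χ : N → ℂ) : ℕ := charDegree χ / H.index

section Frob2

variable (hN : H.Normal) (hC : ∀ h ∈ H, h ≠ 1 → Subgroup.centralizer ({h} : Set N) ≤ H)

include hN hC

theorem charDegree_eq {χ : N → ℂ} (hχ : χ ∈ nontrivOn H) :
    charDegree χ = H.index * rdeg H χ := by
  obtain ⟨a, -, -, h⟩ := exists_rdeg hN hC hχ
  rw [rdeg, h, Nat.mul_div_cancel_left _ (Nat.pos_of_ne_zero Subgroup.index_ne_zero_of_finite)]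

theorem rdeg_pos {χ : N → ℂ} (hχ : χ ∈ nontrivOn H) : 0 < rdeg H χ := by
  obtain ⟨a, ha, -, h⟩ := exists_rdeg hN hC hχ
  rwa [rdeg, h, Nat.mul_div_cancel_left _ (Nat.pos_of_ne_zero Subgroup.index_ne_zero_of_finite)]

theorem rdeg_dvd {χ : N → ℂ} (hχ : χ ∈ nontrivOn H) : rdeg H χ ∣ Nat.card H := by
  obtain ⟨a, -, ha, h⟩ := exists_rdeg hN hC hχ
  rwa [rdeg, h, Nat.mul_div_cancel_left _ (Nat.pos_of_ne_zero Subgroup.index_ne_zero_of_finite)]

theorem apply_one_eq {χ : N → ℂ} (hχ : χ ∈ nontrivOn H) :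
    χ 1 = (H.index : ℂ) * rdeg H χ := by
  rw [← charDegree_natCast (isCharacter_of_isIrrCharacter (mem_nontrivOn.mp hχ).1),
    charDegree_eq hN hC hχ]
  push_cast
  rfl

/-- The characters trivial on `H` have square sum `[N:H]`. -/
theorem sum_trivOn_sq : ∑ τ ∈ trivOn H, τ 1 * τ 1 = (H.index : ℂ) := by
  classical
  let σ : N → ℂ := fun x => ∑ τ ∈ trivOn H, τ 1 * τ x
  set A : ℂ := ∑ τ ∈ trivOn H, τ 1 * τ 1 with hA
  have hσH : ∀ x ∈ H, σ x = A := by
    intro x hx
    refine Finset.sum_congr rfl fun τ hτ => ?_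
    rw [(mem_trivOn.mp hτ).2 x hx]
  have hσoff : ∀ x : N, x ∉ H → σ x = 0 := by
    intro x hx
    have hx1 : x ≠ 1 := fun h => hx (h ▸ H.one_mem)
    have h1 := sum_deg_mul hx1
    rw [sum_split (H := H) (fun θ => θ 1 * θ x)] at h1
    rw [Finset.sum_eq_zero (fun χ hχ => by rw [vanish_off hN hC hχ hx, mul_zero]), zero_add] at h1
    exact h1
  letI : Fintype H := Fintype.ofFinite _
  have hs : ∑ x : N, σ x = (Nat.card H : ℂ) * A := by
    have h0 : ∑ x : H, σ x = ∑ _x : H, A := Finset.sum_congr rfl (fun x _ => hσH x x.2)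
    rw [sum_eq_sum_subgroup H σ hσoff, h0,
      Finset.sum_const, Finset.card_univ, ← Nat.card_eq_fintype_card, nsmul_eq_mul]
  have hone := isIrr_one_fun N
  have hinner : ∀ τ ∈ trivOn H, classInner τ (fun _ => (1 : ℂ)) =
      if τ = (fun _ => (1 : ℂ)) then 1 else 0 := fun τ hτ =>
    classInner_irr (mem_trivOn.mp hτ).1 hone
  have h1mem : (fun _ : N => (1 : ℂ)) ∈ trivOn H := mem_trivOn.mpr ⟨hone, fun _ _ => rfl⟩
  have hcN : (Nat.card N : ℂ) ≠ 0 := card_ne_zero_complex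
  have hval : ∑ x : N, σ x = (Nat.card N : ℂ) := by
    have h2 : ∀ τ ∈ trivOn H, ∑ x : N, τ x = (Nat.card N : ℂ) *
        (if τ = (fun _ => (1 : ℂ)) then 1 else 0) := by
      intro τ hτ
      rw [← hinner τ hτ]
      simp only [classInner, map_one, mul_one]
      rw [← mul_assoc, mul_inv_cancel₀ hcN, one_mul]
    simp only [σ]
    rw [Finset.sum_comm]
    simp only [← Finset.mul_sum]
    rw [Finset.sum_congr rfl (fun τ hτ => by rw [h2 τ hτ])]
    rw [Finset.sum_eq_single_of_mem _ h1mem]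
    · simp
    · intro τ _ hne
      simp [hne]
  have hcH : (Nat.card H : ℂ) ≠ 0 := card_subgroup_ne_zero H
  rw [hs] at hval
  have hidx : (H.index : ℂ) * (Nat.card H : ℂ) = (Nat.card N : ℂ) := by
    exact_mod_cast H.index_mul_card
  apply mul_left_cancel₀ hcH
  rw [hval, ← hidx, mul_comm]

theorem sum_rel_at {k : N} (hk : k ∈ H) (hk1 : k ≠ 1) :
    ∑ χ ∈ nontrivOn H, (rdeg H χ : ℂ) * χ k = -1 := by
  classical
  have h1 := sum_deg_mul hk1
  rw [sum_split (H := H) (fun θ => θ 1 * θ k)] at h1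
  have h2 : ∑ τ ∈ trivOn H, τ 1 * τ k = (H.index : ℂ) := by
    rw [← sum_trivOn_sq hN hC]
    refine Finset.sum_congr rfl fun τ hτ => ?_
    rw [(mem_trivOn.mp hτ).2 k hk]
  rw [h2] at h1
  have h3 : ∑ χ ∈ nontrivOn H, χ 1 * χ k =
      (H.index : ℂ) * ∑ χ ∈ nontrivOn H, (rdeg H χ : ℂ) * χ k := by
    rw [Finset.mul_sum]
    refine Finset.sum_congr rfl fun χ hχ => ?_
    rw [apply_one_eq hN hC hχ, mul_assoc]
  rw [h3] at h1
  have he := index_ne_zero_complex H
  apply mul_left_cancel₀ he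
  linear_combination h1

theorem sum_rel_sq : 1 + H.index * ∑ χ ∈ nontrivOn H, rdeg H χ * rdeg H χ = Nat.card H := by
  classical
  have h1 := sum_deg_sq (N := N)
  rw [sum_split (H := H) (fun θ => θ 1 * θ 1), sum_trivOn_sq hN hC] at h1
  have h3 : ∑ χ ∈ nontrivOn H, χ 1 * χ 1 =
      (H.index : ℂ) * (H.index : ℂ) * ∑ χ ∈ nontrivOn H, (rdeg H χ : ℂ) * (rdeg H χ : ℂ) := by
    rw [Finset.mul_sum]
    refine Finset.sum_congr rfl fun χ hχ => ?_
    rw [apply_one_eq hN hC hχ]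
    ring
  rw [h3] at h1
  have he := index_ne_zero_complex H
  have hidx : (H.index : ℂ) * (Nat.card H : ℂ) = (Nat.card N : ℂ) := by
    exact_mod_cast H.index_mul_card
  rw [← hidx] at h1
  have h4 : ((1 + H.index * ∑ χ ∈ nontrivOn H, rdeg H χ * rdeg H χ : ℕ) : ℂ) = (Nat.card H : ℂ) := by
    apply mul_left_cancel₀ he
    push_cast
    rw [← h1]
    ring
  exact_mod_cast h4

/-- Proportional integer vectors are integer multiples of the relative degree. -/
theorem exists_mul_of_cross (y : (N → ℂ) → ℤ)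
    (hy : ∀ ξ ∈ nontrivOn H, ∀ ζ ∈ nontrivOn H, y ξ * rdeg H ζ = y ζ * rdeg H ξ) :
    ∃ t : ℤ, ∀ ξ ∈ nontrivOn H, y ξ = t * rdeg H ξ := by
  classical
  rcases (nontrivOn H).eq_empty_or_nonempty with h0 | ⟨ξ₀, hξ₀⟩
  · exact ⟨0, fun ξ hξ => by simp [h0] at hξ⟩
  obtain ⟨b, hb⟩ := rdeg_dvd hN hC hξ₀
  refine ⟨b * y ξ₀ - H.index * ∑ ζ ∈ nontrivOn H, (rdeg H ζ : ℤ) * y ζ, fun ξ hξ => ?_⟩
  have h1 := sum_rel_sq hN hC
  have h2 : (1 : ℤ) + H.index * ∑ χ ∈ nontrivOn H, (rdeg H χ : ℤ) * rdeg H χ =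
      rdeg H ξ₀ * b := by
    have := congrArg (fun n : ℕ => (n : ℤ)) (h1.trans hb)
    push_cast at this
    exact this
  have h3 : (∑ ζ ∈ nontrivOn H, (rdeg H ζ : ℤ) * y ζ) * rdeg H ξ =
      y ξ * ∑ χ ∈ nontrivOn H, (rdeg H χ : ℤ) * rdeg H χ := by
    rw [Finset.sum_mul, Finset.mul_sum]
    refine Finset.sum_congr rfl fun ζ hζ => ?_
    have := hy ξ hξ ζ hζ
    linear_combination -(rdeg H ζ : ℤ) * this
  have h4 := hy ξ hξ ξ₀ hξ₀
  have h5 : ((b : ℤ) * y ξ₀ - H.index * ∑ ζ ∈ nontrivOn H, (rdeg H ζ : ℤ) * y ζ) * rdeg H ξ =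
      b * (y ξ₀ * rdeg H ξ) - H.index * ((∑ ζ ∈ nontrivOn H, (rdeg H ζ : ℤ) * y ζ) * rdeg H ξ) := by
    ring
  rw [h5, h3, ← h4]
  linear_combination (y ξ) * h2

/-- A generalized character whose products with the relevant characters are proportional to the
relative degrees is a constant integer on `H ∖ 1`. -/
theorem const_of_cross {f : N → ℂ} (hf : IsGeneralizedCharacter N f)
    (hcross : ∀ ξ ∈ nontrivOn H, ∀ ζ ∈ nontrivOn H,
      classInner f ξ * rdeg H ζ = classInner f ζ * rdeg H ξ) :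
    ∃ c : ℤ, ∀ k ∈ H, k ≠ 1 → f k = c := by
  classical
  have hint : ∀ ξ : N → ℂ, ∃ n : ℤ, ξ ∈ irrFinset N → classInner f ξ = n := by
    intro ξ
    by_cases hξ : ξ ∈ irrFinset N
    · obtain ⟨n, hn⟩ := exists_int_classInner hf (isGenChar_of_isIrr (mem_irrFinset.mp hξ))
      exact ⟨n, fun _ => hn⟩
    · exact ⟨0, fun h => absurd h hξ⟩
  choose y hy using hint
  have hyS : ∀ ξ ∈ nontrivOn H, classInner f ξ = y ξ := fun ξ hξ => hy ξ (nontrivOn_subset hξ)
  obtain ⟨t, ht⟩ := exists_mul_of_cross hN hC y (by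
    intro ξ hξ ζ hζ
    have := hcross ξ hξ ζ hζ
    rw [hyS ξ hξ, hyS ζ hζ] at this
    exact_mod_cast this)
  have hTmem : ∀ τ ∈ trivOn H, τ ∈ irrFinset N := fun τ hτ =>
    mem_irrFinset.mpr (mem_trivOn.mp hτ).1
  refine ⟨∑ τ ∈ trivOn H, y τ * charDegree τ - t, fun k hk hk1 => ?_⟩
  have hcl := isClassFunction_of_isGenChar hf
  rw [apply_eq_sum hcl k, sum_split (H := H) (fun θ => classInner f θ * θ k)]
  have h1 : ∑ θ ∈ nontrivOn H, classInner f θ * θ k = -(t : ℂ) := by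
    have h2 := sum_rel_at hN hC hk hk1
    have h3 : ∑ θ ∈ nontrivOn H, classInner f θ * θ k =
        (t : ℂ) * ∑ χ ∈ nontrivOn H, (rdeg H χ : ℂ) * χ k := by
      rw [Finset.mul_sum]
      refine Finset.sum_congr rfl fun χ hχ => ?_
      rw [hyS χ hχ, ht χ hχ]
      push_cast
      ring
    rw [h3, h2]
    ring
  have h4 : ∑ θ ∈ trivOn H, classInner f θ * θ k = ((∑ τ ∈ trivOn H, y τ * charDegree τ : ℤ) : ℂ) := by
    push_cast
    refine Finset.sum_congr rfl fun τ hτ => ?_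
    rw [hy τ (hTmem τ hτ), (mem_trivOn.mp hτ).2 k hk,
      charDegree_natCast (isCharacter_of_isIrrCharacter (mem_trivOn.mp hτ).1)]
  rw [h1, h4]
  push_cast
  ring

/-- With at least two relevant characters, each of them is not constant on `H ∖ 1`. -/
theorem nonconst {χ ξ : N → ℂ} (hχ : χ ∈ nontrivOn H) (hξ : ξ ∈ nontrivOn H) (hne : χ ≠ ξ) :
    ∃ a ∈ H, ∃ b ∈ H, a ≠ 1 ∧ b ≠ 1 ∧ χ a ≠ χ b := by
  classical
  by_contra hall
  push Not at hall
  letI : Fintype H := Fintype.ofFinite _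
  have hχirr := (mem_nontrivOn.mp hχ).1
  have hξirr := (mem_nontrivOn.mp hξ).1
  obtain ⟨k₀, hk₀, hk₀1⟩ := (mem_nontrivOn.mp hχ).2
  have hk₀ne : k₀ ≠ 1 := by
    rintro rfl
    exact hk₀1 rfl
  set c : ℂ := χ k₀ with hc
  have hval : ∀ h ∈ H, h ≠ 1 → χ h = c := fun h hh hh1 => hall h hh k₀ hk₀ hh1 hk₀ne
  have hone := isIrr_one_fun N
  have hcN : (Nat.card N : ℂ) ≠ 0 := card_ne_zero_complex
  have hne1 : ∀ θ ∈ nontrivOn H, θ ≠ fun _ => (1 : ℂ) := by
    rintro θ hθ rfl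
    obtain ⟨-, h, -, h2⟩ := mem_nontrivOn.mp hθ
    exact h2 rfl
  have hsum0 : ∀ θ ∈ nontrivOn H, ∑ h : H, θ h = 0 := by
    intro θ hθ
    have h1 := classInner_irr (mem_nontrivOn.mp hθ).1 hone
    rw [if_neg (hne1 θ hθ)] at h1
    simp only [classInner, map_one, mul_one] at h1
    have h2 : ∑ x : N, θ x = 0 := by
      rcases mul_eq_zero.mp h1 with h | h
      · exact absurd h (inv_ne_zero hcN)
      · exact h
    rw [sum_eq_sum_subgroup H θ (fun x hx => vanish_off hN hC hθ hx)] at h2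
    exact h2
  have hprod : ∑ h : H, χ h * conj (ξ h) = 0 := by
    have h1 := classInner_irr hχirr hξirr
    rw [if_neg hne] at h1
    simp only [classInner] at h1
    have h2 : ∑ x : N, χ x * conj (ξ x) = 0 := by
      rcases mul_eq_zero.mp h1 with h | h
      · exact absurd h (inv_ne_zero hcN)
      · exact h
    rw [sum_eq_sum_subgroup H (fun x => χ x * conj (ξ x))
      (fun x hx => by simp [vanish_off hN hC hχ hx])] at h2
    exact h2
  -- isolate the identity
  have hsplit : ∀ F : H → ℂ, ∑ h : H, F h = F 1 + ∑ h ∈ Finset.univ.erase (1 : H), F h := by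
    intro F
    rw [Finset.add_sum_erase _ _ (Finset.mem_univ _)]
  have hχ1 : ∑ h ∈ Finset.univ.erase (1 : H), χ h = ((Finset.univ.erase (1 : H)).card : ℂ) * c := by
    rw [Finset.sum_congr rfl (g := fun _ => c), Finset.sum_const, nsmul_eq_mul]
    intro h hh
    exact hval h h.2 (fun h1 => (Finset.mem_erase.mp hh).1 (Subtype.ext h1))
  have hξs : ∑ h ∈ Finset.univ.erase (1 : H), conj (ξ h) = - conj (ξ 1) := by
    have h1 := hsum0 ξ hξ
    have h2 := hsplit (fun h : H => conj (ξ h))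
    have h3 : ∑ h : H, conj (ξ h) = 0 := by
      rw [← map_sum, h1, map_zero]
    rw [h3] at h2
    simp only [Subgroup.coe_one] at h2
    linear_combination -h2
  have hp := hsplit (fun h : H => χ h * conj (ξ h))
  rw [hprod] at hp
  simp only [Subgroup.coe_one] at hp
  have hp2 : ∑ h ∈ Finset.univ.erase (1 : H), χ h * conj (ξ h) =
      c * ∑ h ∈ Finset.univ.erase (1 : H), conj (ξ h) := by
    rw [Finset.mul_sum]
    refine Finset.sum_congr rfl fun h hh => ?_
    rw [hval h h.2 (fun h1 => (Finset.mem_erase.mp hh).1 (Subtype.ext h1))]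
  rw [hp2, hξs] at hp
  have hξ1 : conj (ξ 1) ≠ 0 := by
    intro h
    exact irr_one_ne_zero hξirr ((map_eq_zero _).mp h)
  have hχc : χ 1 = c := by
    have : conj (ξ 1) * (χ 1 - c) = 0 := by linear_combination -hp
    rcases mul_eq_zero.mp this with h | h
    · exact absurd h hξ1
    · exact sub_eq_zero.mp h
  have hq := hsplit (fun h : H => χ h)
  rw [hsum0 χ hχ] at hq
  simp only [Subgroup.coe_one] at hq
  rw [hχ1, hχc] at hq
  have hcard : (((Finset.univ.erase (1 : H)).card : ℂ) + 1) = (Nat.card H : ℂ) := by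
    rw [Finset.card_erase_of_mem (Finset.mem_univ _), Finset.card_univ, ← Nat.card_eq_fintype_card]
    have h1 : 1 ≤ Nat.card H := Nat.card_pos
    push_cast [h1]
    ring
  have hzero : (Nat.card H : ℂ) * c = 0 := by
    rw [← hcard]
    linear_combination -hq
  rcases mul_eq_zero.mp hzero with h | h
  · exact card_subgroup_ne_zero H h
  · exact irr_one_ne_zero hχirr (hχc.trans h)

end Frob2

end Cfsg.Agent.Lib.CharDeep.FrobRelevant
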