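import Cfsg.Agent.Lib.CharDeep.FrobRelevant
import Cfsg.Agent.Lib.Char.TI
import Cfsg.Agent.Lib.Char.IndSpan
import Cfsg.Prelude.Def_OddOrderChar

/-!
# Coherence for T.I. subgroups with Frobenius normalizer
-/

set_option autoImplicit false
set_option linter.unusedSectionVars false

namespace Cfsg.Agent.Lib.CharDeep.TIFNRel

open Cfsg
open Cfsg.Agent.Lib.Char.Ortho Cfsg.Agent.Lib.Char.Basic Cfsg.Agent.Lib.Char.Complete
  Cfsg.Agent.Lib.Char.Degree Cfsg.Agent.Lib.Char.Induced Cfsg.Agent.Lib.Char.GenLattice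
  Cfsg.Agent.Lib.Coh.DegSum Cfsg.Agent.Lib.Coh.FrobDeg Cfsg.Agent.Lib.Coh.Basic
  Cfsg.Agent.Lib.CharDeep.FrobRelevant Cfsg.Agent.Lib.Char.TI

section Nlevel

variable {N : Type*} [Group N] [Fintype N] {H : Subgroup N}

theorem zspan_vanish (hN : H.Normal) (hC : ∀ h ∈ H, h ≠ 1 → Subgroup.centralizer ({h} : Set N) ≤ H)
    {α : N → ℂ} (hα : α ∈ zspan (↑(nontrivOn H) : Set (N → ℂ))) : ∀ x : N, x ∉ H → α x = 0 := by
  induction hα using Submodule.span_induction with
  | mem ξ hξ => exact fun x hx => vanish_off hN hC hξ hx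
  | zero => exact fun _ _ => rfl
  | add a b _ _ ha hb =>
    intro x hx
    simp [ha x hx, hb x hx]
  | smul n a _ ha =>
    intro x hx
    simp [ha x hx]

theorem zspan_class {α : N → ℂ} (hα : α ∈ zspan (↑(nontrivOn H) : Set (N → ℂ))) :
    IsClassFunction N α := by
  induction hα using Submodule.span_induction with
  | mem ξ hξ => exact isClassFunction_of_isIrrCharacter (mem_nontrivOn.mp hξ).1
  | zero => intro a b; rfl
  | add a b _ _ ha hb =>
    intro x y
    simp only [Pi.add_apply]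
    rw [ha x y, hb x y]
  | smul n a _ ha =>
    intro x y
    simp only [Pi.smul_apply]
    rw [ha x y]

theorem zspan_genChar {α : N → ℂ} (hα : α ∈ zspan (↑(nontrivOn H) : Set (N → ℂ))) :
    IsGeneralizedCharacter N α := by
  induction hα using Submodule.span_induction with
  | mem ξ hξ => exact isGenChar_of_isIrr (mem_nontrivOn.mp hξ).1
  | zero => exact isGenChar_zero
  | add a b _ _ ha hb => exact isGenChar_add ha hb
  | smul n a _ ha => exact isGenChar_zsmul ha n

/-- The degree zero combination of two relevant characters. -/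
noncomputable def al (H : Subgroup N) (ξ ζ : N → ℂ) : N → ℂ :=
  (rdeg H ζ : ℤ) • ξ - (rdeg H ξ : ℤ) • ζ

theorem al_mem_zspan {ξ ζ : N → ℂ} (hξ : ξ ∈ nontrivOn H) (hζ : ζ ∈ nontrivOn H) :
    al H ξ ζ ∈ zspan (↑(nontrivOn H) : Set (N → ℂ)) :=
  Submodule.sub_mem _ (Submodule.smul_mem _ _ (subset_zspan hξ))
    (Submodule.smul_mem _ _ (subset_zspan hζ))

theorem al_apply (ξ ζ : N → ℂ) (x : N) :
    al H ξ ζ x = (rdeg H ζ : ℂ) * ξ x - (rdeg H ξ : ℂ) * ζ x := by
  simp [al]

theorem al_mem (hN : H.Normal) (hC : ∀ h ∈ H, h ≠ 1 → Subgroup.centralizer ({h} : Set N) ≤ H)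
    {ξ ζ : N → ℂ} (hξ : ξ ∈ nontrivOn H) (hζ : ζ ∈ nontrivOn H) :
    al H ξ ζ ∈ zspanOn (↑(nontrivOn H) : Set (N → ℂ)) ({1}ᶜ : Set N) := by
  rw [mem_zspanOn_compl_one]
  refine ⟨al_mem_zspan hξ hζ, ?_⟩
  rw [al_apply, apply_one_eq hN hC hξ, apply_one_eq hN hC hζ]
  ring

theorem classInner_al (f : N → ℂ) (ξ ζ : N → ℂ) :
    classInner f (al H ξ ζ) =
      (rdeg H ζ : ℂ) * classInner f ξ - (rdeg H ξ : ℂ) * classInner f ζ := by
  rw [al, classInner_sub_right, classInner_zsmul_right, classInner_zsmul_right]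
  push_cast
  rfl

/-- Constancy from orthogonality to degree zero combinations. -/
theorem const_of_orth (hN : H.Normal) (hC : ∀ h ∈ H, h ≠ 1 → Subgroup.centralizer ({h} : Set N) ≤ H)
    {f : N → ℂ} (hf : IsGeneralizedCharacter N f)
    (horth : ∀ α ∈ zspanOn (↑(nontrivOn H) : Set (N → ℂ)) ({1}ᶜ : Set N), classInner f α = 0) :
    ∃ c : ℤ, ∀ k ∈ H, k ≠ 1 → f k = c := by
  apply const_of_cross hN hC hf
  intro ξ hξ ζ hζ
  have h1 := horth _ (al_mem hN hC hξ hζ)
  rw [classInner_al] at h1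
  linear_combination h1

end Nlevel

section Glevel

variable {G : Type*} [Group G] [Fintype G] {K : Subgroup G}

theorem normal_H : (K.subgroupOf (Subgroup.normalizer (K : Set G))).Normal :=
  Subgroup.normal_in_normalizer

theorem centralizer_H (hC : ∀ k ∈ K, k ≠ 1 → Subgroup.centralizer ({k} : Set G) ≤ K) :
    ∀ h ∈ K.subgroupOf (Subgroup.normalizer (K : Set G)), h ≠ 1 →
      Subgroup.centralizer ({h} : Set ↥(Subgroup.normalizer (K : Set G))) ≤
        K.subgroupOf (Subgroup.normalizer (K : Set G)) := by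
  intro h hh hh1 x hx
  rw [Subgroup.mem_subgroupOf] at hh ⊢
  apply hC _ hh (fun h1 => hh1 (Subtype.ext h1))
  rw [Subgroup.mem_centralizer_iff] at hx ⊢
  intro y hy
  rw [Set.mem_singleton_iff] at hy
  subst hy
  have := hx h (Set.mem_singleton _)
  exact congrArg Subtype.val this

variable [Fintype ↥(Subgroup.normalizer (K : Set G))]

theorem mem_nontrivOn_iff {χ : ↥(Subgroup.normalizer (K : Set G)) → ℂ} :
    χ ∈ nontrivOn (K.subgroupOf (Subgroup.normalizer (K : Set G))) ↔
      IsIrrCharacter _ χ ∧ ∃ k : ↥(Subgroup.normalizer (K : Set G)), (k : G) ∈ K ∧ χ k ≠ χ 1 := by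
  rw [mem_nontrivOn]
  simp only [Subgroup.mem_subgroupOf]

theorem set_eq {S : Set (↥(Subgroup.normalizer (K : Set G)) → ℂ)}
    (hS : S = {χ : ↥(Subgroup.normalizer (K : Set G)) → ℂ | IsIrrCharacter _ χ ∧
      ∃ k : ↥(Subgroup.normalizer (K : Set G)), (k : G) ∈ K ∧ χ k ≠ χ 1}) :
    S = ↑(nontrivOn (K.subgroupOf (Subgroup.normalizer (K : Set G)))) := by
  subst hS
  ext χ
  rw [Finset.mem_coe, mem_nontrivOn_iff]
  rfl

/-- Induction on a combination with value zero at the identity agrees with it on `K ∖ 1`. -/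
theorem indFun_al_apply (hTI : ∀ g : G, g ∉ Subgroup.normalizer (K : Set G) → ∀ k ∈ K,
      g * k * g⁻¹ ∈ K → k = 1)
    (hC : ∀ k ∈ K, k ≠ 1 → Subgroup.centralizer ({k} : Set G) ≤ K)
    {α : ↥(Subgroup.normalizer (K : Set G)) → ℂ}
    (hα : α ∈ zspan (↑(nontrivOn (K.subgroupOf (Subgroup.normalizer (K : Set G)))) :
      Set (↥(Subgroup.normalizer (K : Set G)) → ℂ)))
    (k : ↥(Subgroup.normalizer (K : Set G))) (hk : (k : G) ∈ K) (hk1 : k ≠ 1) :
    indFun (Subgroup.normalizer (K : Set G)) α k = α k :=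
  indFun_normalizer_apply (K : Set G) hTI (Subgroup.le_normalizer) α (zspan_class hα)
    (fun x hx => zspan_vanish normal_H (centralizer_H hC) hα x (by
      rw [Subgroup.mem_subgroupOf]
      exact hx)) k hk hk1

/-- The isometry property of induction on degree zero combinations. -/
theorem inner_indFun (hTI : ∀ g : G, g ∉ Subgroup.normalizer (K : Set G) → ∀ k ∈ K,
      g * k * g⁻¹ ∈ K → k = 1)
    (hC : ∀ k ∈ K, k ≠ 1 → Subgroup.centralizer ({k} : Set G) ≤ K)
    {α β : ↥(Subgroup.normalizer (K : Set G)) → ℂ}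
    (hα : α ∈ zspanOn (↑(nontrivOn (K.subgroupOf (Subgroup.normalizer (K : Set G)))) :
      Set (↥(Subgroup.normalizer (K : Set G)) → ℂ)) ({1}ᶜ : Set _))
    (hβ : β ∈ zspan (↑(nontrivOn (K.subgroupOf (Subgroup.normalizer (K : Set G)))) :
      Set (↥(Subgroup.normalizer (K : Set G)) → ℂ))) :
    classInner (indFun (Subgroup.normalizer (K : Set G)) α)
      (indFun (Subgroup.normalizer (K : Set G)) β) = classInner α β := by
  have hα' := mem_zspanOn_compl_one.mp hα
  apply classInner_indFun_indFun_normalizer (K : Set G) hTI Subgroup.le_normalizer α β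
    (zspan_class hα'.1) (zspan_class hβ)
  · exact fun x hx => zspan_vanish normal_H (centralizer_H hC) hα'.1 x (by
      rw [Subgroup.mem_subgroupOf]
      exact hx)
  · exact fun x hx => zspan_vanish normal_H (centralizer_H hC) hβ x (by
      rw [Subgroup.mem_subgroupOf]
      exact hx)
  · exact hα'.2

/-- A generalized character of `G` orthogonal to the images of the relevant characters is a constant
integer on `K ∖ 1`. -/
theorem const_of_orth_star (hC : ∀ k ∈ K, k ≠ 1 → Subgroup.centralizer ({k} : Set G) ≤ K)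
    {star : (↥(Subgroup.normalizer (K : Set G)) → ℂ) → (G → ℂ)}
    (hstar : IsLinearIsometryOn (zspan (↑(nontrivOn (K.subgroupOf (Subgroup.normalizer (K : Set G)))) :
      Set (↥(Subgroup.normalizer (K : Set G)) → ℂ))) star)
    (hext : ∀ α ∈ zspanOn (↑(nontrivOn (K.subgroupOf (Subgroup.normalizer (K : Set G)))) :
      Set (↥(Subgroup.normalizer (K : Set G)) → ℂ)) ({1}ᶜ : Set _),
        star α = indFun (Subgroup.normalizer (K : Set G)) α)
    {x : G → ℂ} (hx : IsGeneralizedCharacter G x)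
    (horth : ∀ ξ ∈ nontrivOn (K.subgroupOf (Subgroup.normalizer (K : Set G))),
      classInner x (star ξ) = 0) :
    ∃ c : ℤ, ∀ k : ↥(Subgroup.normalizer (K : Set G)), (k : G) ∈ K → k ≠ 1 → x k = c := by
  have hf := isGenChar_restrict (Subgroup.normalizer (K : Set G)) hx
  obtain ⟨c, hc⟩ := const_of_orth normal_H (centralizer_H hC) hf (by
    intro α hα
    rw [← classInner_indFun_right _ α x (isClassFunction_of_isGenChar hx), ← hext α hα]
    exact inner_image_eq_zero hstar (fun ξ hξ => horth ξ hξ) α hα.1)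
  exact ⟨c, fun k hk hk1 => hc k (by rwa [Subgroup.mem_subgroupOf]) hk1⟩

/-- The value of the image of a relevant character on `K ∖ 1`. -/
theorem exists_m (hTI : ∀ g : G, g ∉ Subgroup.normalizer (K : Set G) → ∀ k ∈ K,
      g * k * g⁻¹ ∈ K → k = 1)
    (hC : ∀ k ∈ K, k ≠ 1 → Subgroup.centralizer ({k} : Set G) ≤ K)
    {star : (↥(Subgroup.normalizer (K : Set G)) → ℂ) → (G → ℂ)}
    (hstar : IsLinearIsometryOn (zspan (↑(nontrivOn (K.subgroupOf (Subgroup.normalizer (K : Set G)))) :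
      Set (↥(Subgroup.normalizer (K : Set G)) → ℂ))) star)
    (hext : ∀ α ∈ zspanOn (↑(nontrivOn (K.subgroupOf (Subgroup.normalizer (K : Set G)))) :
      Set (↥(Subgroup.normalizer (K : Set G)) → ℂ)) ({1}ᶜ : Set _),
        star α = indFun (Subgroup.normalizer (K : Set G)) α) :
    ∃ m : ℤ, ∀ χ ∈ nontrivOn (K.subgroupOf (Subgroup.normalizer (K : Set G))),
      ∀ k : ↥(Subgroup.normalizer (K : Set G)), (k : G) ∈ K → k ≠ 1 →
        star χ k - χ k = (m : ℂ) * rdeg (K.subgroupOf (Subgroup.normalizer (K : Set G))) χ := by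
  classical
  set H := K.subgroupOf (Subgroup.normalizer (K : Set G)) with hHdef
  have hN : H.Normal := normal_H
  have hC' := centralizer_H hC
  have hstar' : IsLinearIsometryOn ((zspanS (↑(nontrivOn H) :
      Set (↥(Subgroup.normalizer (K : Set G)) → ℂ)) :
        Submodule ℤ (↥(Subgroup.normalizer (K : Set G)) → ℂ)) :
      Set (↥(Subgroup.normalizer (K : Set G)) → ℂ)) star := hstar
  -- the constant for each relevant character
  have hconst : ∀ χ : ↥(Subgroup.normalizer (K : Set G)) → ℂ, ∃ c : ℤ, χ ∈ nontrivOn H →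
      ∀ k ∈ H, k ≠ 1 → star χ k - χ k = c := by
    intro χ
    by_cases hχ : χ ∈ nontrivOn H
    · have hχz : χ ∈ zspan (↑(nontrivOn H) : Set (_ → ℂ)) := subset_zspan hχ
      have hv := iso_virtual hstar hχz
      have hf : IsGeneralizedCharacter _ ((fun k : ↥(Subgroup.normalizer (K : Set G)) => star χ k) - χ) :=
        isGenChar_sub (isGenChar_restrict _ hv) (isGenChar_of_isIrr (mem_nontrivOn.mp hχ).1)
      obtain ⟨c, hc⟩ := const_of_orth hN hC' hf (by
        intro α hα
        rw [classInner_sub_left,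
          ← classInner_indFun_right _ α (star χ) (isClassFunction_of_isGenChar hv), ← hext α hα,
          iso_inner hstar hχz hα.1, sub_self])
      exact ⟨c, fun _ k hk hk1 => hc k hk hk1⟩
    · exact ⟨0, fun h => absurd h hχ⟩
  choose c hc using hconst
  obtain ⟨m, hm⟩ := exists_mul_of_cross hN hC' c (by
    intro ξ hξ ζ hζ
    obtain ⟨k₀, hk₀, hk₀1⟩ := (mem_nontrivOn.mp hξ).2
    have hk₀ne : k₀ ≠ 1 := by
      rintro rfl
      exact hk₀1 rfl
    have hαz := al_mem hN hC' hξ hζ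
    have h1 := indFun_al_apply hTI hC hαz.1 k₀ hk₀ hk₀ne
    rw [← hext _ hαz] at h1
    have h2 : star (al H ξ ζ) = (rdeg H ζ : ℤ) • star ξ - (rdeg H ξ : ℤ) • star ζ := by
      rw [al, iso_sub hstar' (Submodule.smul_mem _ _ (subset_zspan hξ))
        (Submodule.smul_mem _ _ (subset_zspan hζ)), iso_zsmul hstar' (subset_zspan hξ),
        iso_zsmul hstar' (subset_zspan hζ)]
    rw [h2, al_apply] at h1
    rw [Pi.sub_apply, zsmul_apply', zsmul_apply'] at h1
    simp only [Int.cast_natCast] at h1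
    have h3 := hc ξ hξ k₀ hk₀ hk₀ne
    have h4 := hc ζ hζ k₀ hk₀ hk₀ne
    have h5 : ((c ξ * rdeg H ζ : ℤ) : ℂ) = ((c ζ * rdeg H ξ : ℤ) : ℂ) := by
      push_cast
      rw [← h3, ← h4]
      linear_combination h1
    exact_mod_cast h5)
  refine ⟨m, fun χ hχ k hk hk1 => ?_⟩
  rw [hc χ hχ k (by rwa [hHdef, Subgroup.mem_subgroupOf]) hk1, hm χ hχ]
  push_cast
  rfl

end Glevel

end Cfsg.Agent.Lib.CharDeep.TIFNRel
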